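import Mathlib
import Cfsg.Agent.Helper23.Cyclic

set_option autoImplicit false
set_option linter.unusedSectionVars false
set_option linter.unusedVariables false

/-!
Cyclic Hall subgroups `A` all of whose non-trivial elements have the same abelian centraliser `Z`.
-/

namespace Cfsg.Agent.Helper6.ReeLoc

open Subgroup

variable {G : Type*} [Group G]

/-- conjugation of a subgroup -/
abbrev cj (g : G) (X : Subgroup G) : Subgroup G := X.map (MulAut.conj g).toMonoidHom

theorem mem_cj {g x : G} {X : Subgroup G} : x ∈ cj g X ↔ g⁻¹ * x * g ∈ X := by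
  unfold cj
  rw [Subgroup.mem_map]
  constructor
  · rintro ⟨y, hy, rfl⟩
    simp only [MulEquiv.toMonoidHom_eq_coe, MonoidHom.coe_coe, MulAut.conj_apply]
    have : g⁻¹ * (g * y * g⁻¹) * g = y := by group
    rwa [this]
  · intro h
    refine ⟨g⁻¹ * x * g, h, ?_⟩
    simp only [MulEquiv.toMonoidHom_eq_coe, MonoidHom.coe_coe, MulAut.conj_apply]
    group

theorem conj_mem_cj {g x : G} {X : Subgroup G} (hx : x ∈ X) : g * x * g⁻¹ ∈ cj g X := by
  rw [mem_cj]
  have : g⁻¹ * (g * x * g⁻¹) * g = x := by group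
  rwa [this]

theorem cj_mono {g : G} {X Y : Subgroup G} (h : X ≤ Y) : cj g X ≤ cj g Y := Subgroup.map_mono h

theorem cj_cj (g h : G) (X : Subgroup G) : cj g (cj h X) = cj (g * h) X := by
  ext x
  rw [mem_cj, mem_cj, mem_cj]
  have : h⁻¹ * (g⁻¹ * x * g) * h = (g * h)⁻¹ * x * (g * h) := by group
  rw [this]

theorem cj_one (X : Subgroup G) : cj 1 X = X := by
  ext x
  rw [mem_cj]
  simp

theorem cj_inv_cj (g : G) (X : Subgroup G) : cj g⁻¹ (cj g X) = X := by
  rw [cj_cj, inv_mul_cancel, cj_one]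

theorem cj_cj_inv (g : G) (X : Subgroup G) : cj g (cj g⁻¹ X) = X := by
  rw [cj_cj, mul_inv_cancel, cj_one]

theorem card_cj (g : G) (X : Subgroup G) : Nat.card (cj g X) = Nat.card X :=
  Nat.card_congr (X.equivMapOfInjective (MulAut.conj g).toMonoidHom (MulAut.conj g).injective).symm.toEquiv

theorem cj_eq_bot_iff {g : G} {X : Subgroup G} : cj g X = ⊥ ↔ X = ⊥ :=
  Subgroup.map_eq_bot_iff_of_injective _ (MulAut.conj g).injective

theorem isCyclic_cj {g : G} {X : Subgroup G} (h : IsCyclic X) : IsCyclic (cj g X) := by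
  have e := X.equivMapOfInjective (MulAut.conj g).toMonoidHom (MulAut.conj g).injective
  exact isCyclic_of_surjective e e.surjective

theorem cj_le_iff {g : G} {X Y : Subgroup G} : cj g X ≤ Y ↔ X ≤ cj g⁻¹ Y := by
  constructor
  · intro h
    have := cj_mono (g := g⁻¹) h
    rwa [cj_inv_cj] at this
  · intro h
    have := cj_mono (g := g) h
    rwa [cj_cj_inv] at this

theorem le_cj_iff {g : G} {X Y : Subgroup G} : X ≤ cj g Y ↔ cj g⁻¹ X ≤ Y := by
  rw [cj_le_iff, inv_inv]

theorem centralizer_cj (g : G) (X : Subgroup G) :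
    centralizer ((cj g X : Subgroup G) : Set G) = cj g (centralizer (X : Set G)) := by
  ext x
  rw [mem_cj, mem_centralizer_iff, mem_centralizer_iff]
  constructor
  · intro h y hy
    have := h (g * y * g⁻¹) (conj_mem_cj hy)
    have e1 : y * (g⁻¹ * x * g) = g⁻¹ * (g * y * g⁻¹ * x) * g := by group
    have e2 : g⁻¹ * x * g * y = g⁻¹ * (x * (g * y * g⁻¹)) * g := by group
    rw [e1, e2, this]
  · intro h y hy
    rw [SetLike.mem_coe, mem_cj] at hy
    have := h _ hy
    have e1 : y * x = g * (g⁻¹ * y * g * (g⁻¹ * x * g)) * g⁻¹ := by group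
    have e2 : x * y = g * (g⁻¹ * x * g * (g⁻¹ * y * g)) * g⁻¹ := by group
    rw [e1, e2, this]

theorem normalizer_cj (g : G) (X : Subgroup G) :
    normalizer ((cj g X : Subgroup G) : Set G) = cj g (normalizer (X : Set G)) := by
  ext x
  rw [mem_cj, mem_normalizer_iff, mem_normalizer_iff]
  constructor
  · intro h y
    have := h (g * y * g⁻¹)
    rw [mem_cj, mem_cj] at this
    have e1 : g⁻¹ * (g * y * g⁻¹) * g = y := by group
    have e2 : g⁻¹ * (x * (g * y * g⁻¹) * x⁻¹) * g = g⁻¹ * x * g * y * (g⁻¹ * x * g)⁻¹ := by group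
    rwa [e1, e2] at this
  · intro h y
    rw [mem_cj, mem_cj]
    have := h (g⁻¹ * y * g)
    have e2 : g⁻¹ * x * g * (g⁻¹ * y * g) * (g⁻¹ * x * g)⁻¹ = g⁻¹ * (x * y * x⁻¹) * g := by group
    rwa [e2] at this

/-- the normaliser of a subgroup normalises its centraliser -/
theorem normalizer_le_normalizer_centralizer (X : Subgroup G) :
    normalizer (X : Set G) ≤ normalizer ((centralizer (X : Set G) : Subgroup G) : Set G) := by
  intro g hg
  rw [mem_normalizer_iff_map_conj_eq] at hg
  rw [mem_normalizer_iff_map_conj_eq]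
  have := centralizer_cj g X
  unfold cj at this
  have hg' : X.map (MulAut.conj g).toMonoidHom = X := hg
  rw [hg'] at this
  exact this.symm

/-- the data: `A` cyclic, `Z ≥ A` abelian containing the centraliser of every non-trivial element
of `A`, `A` contains every subgroup of `Z` of order dividing `|A|`, `A` is a Hall subgroup -/
structure SC (A Z : Subgroup G) : Prop where
  le : A ≤ Z
  cyc : IsCyclic A
  cent : ∀ y ∈ A, y ≠ 1 → ∀ g : G, Commute g y → g ∈ Z
  comm : ∀ a ∈ Z, ∀ b ∈ Z, Commute a b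
  uniq : ∀ X : Subgroup G, X ≤ Z → Nat.card X ∣ Nat.card A → X ≤ A
  hall : ∀ p : ℕ, p.Prime → p ∣ Nat.card A → ∃ P : Sylow p G, (P : Subgroup G) ≤ A

namespace SC

variable {A Z : Subgroup G}

theorem conj (h : SC A Z) (g : G) : SC (cj g A) (cj g Z) where
  le := cj_mono h.le
  cyc := isCyclic_cj h.cyc
  cent := by
    intro y hy hy1 x hx
    rw [mem_cj] at hy ⊢
    apply h.cent _ hy
    · intro e
      apply hy1
      have : y = g * (g⁻¹ * y * g) * g⁻¹ := by group
      rw [this, e]; group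
    · have e1 : g⁻¹ * x * g * (g⁻¹ * y * g) = g⁻¹ * (x * y) * g := by group
      have e2 : g⁻¹ * y * g * (g⁻¹ * x * g) = g⁻¹ * (y * x) * g := by group
      rw [Commute, SemiconjBy, e1, e2, hx.eq]
  comm := by
    intro a ha b hb
    rw [mem_cj] at ha hb
    have := (h.comm _ ha _ hb).eq
    have e1 : a * b = g * (g⁻¹ * a * g * (g⁻¹ * b * g)) * g⁻¹ := by group
    have e2 : b * a = g * (g⁻¹ * b * g * (g⁻¹ * a * g)) * g⁻¹ := by group
    rw [Commute, SemiconjBy, e1, e2, this]
  uniq := by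
    intro X hX hcard
    rw [le_cj_iff] at hX ⊢
    apply h.uniq _ hX
    rw [card_cj] at hcard
    rw [card_cj]
    exact hcard
  hall := by
    intro p hp hdvd
    rw [card_cj] at hdvd
    obtain ⟨P, hP⟩ := h.hall p hp hdvd
    refine ⟨g • P, ?_⟩
    rw [Sylow.coe_subgroup_smul]
    intro x hx
    rw [mem_pointwise_smul_iff_inv_smul_mem, MulAut.smul_def, MulAut.conj_inv_apply] at hx
    rw [mem_cj]
    exact hP hx

theorem Z_le_centralizer (h : SC A Z) (X : Subgroup G) (hX : X ≤ A) :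
    Z ≤ centralizer (X : Set G) := by
  intro z hz
  rw [mem_centralizer_iff]
  intro x hx
  exact (h.comm z hz x (h.le (hX hx))).eq.symm

/-- the centraliser of a non-trivial subgroup of `A` is `Z` -/
theorem centralizer_eq (h : SC A Z) (X : Subgroup G) (hX : X ≤ A) (hX1 : X ≠ ⊥) :
    centralizer (X : Set G) = Z := by
  apply le_antisymm _ (h.Z_le_centralizer X hX)
  intro g hg
  obtain ⟨x, hx1⟩ := (Subgroup.ne_bot_iff_exists_ne_one (H := X)).1 hX1
  rw [mem_centralizer_iff] at hg
  exact h.cent x (hX x.2) (fun e => hx1 (Subtype.ext e)) g (hg x x.2).symm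

/-- the normaliser of `Z` normalises `A` -/
theorem normalizer_Z_le [Finite G] (h : SC A Z) : normalizer (Z : Set G) ≤ normalizer (A : Set G) := by
  intro g hg
  rw [mem_normalizer_iff_map_conj_eq] at hg ⊢
  have h1 : cj g A ≤ A := by
    apply h.uniq
    · have := cj_mono (g := g) h.le
      unfold cj at this ⊢
      have hg' : Z.map (MulAut.conj g).toMonoidHom = Z := hg
      rwa [hg'] at this
    · rw [card_cj]
  exact Subgroup.eq_of_le_of_card_ge h1 (card_cj g A).ge

/-- a subgroup of a cyclic subgroup is normalised by its normaliser -/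
theorem normalizer_le_of_cyclic [Finite G] {A : Subgroup G} (hA : IsCyclic A) {X : Subgroup G}
    (hX : X ≤ A) : normalizer (A : Set G) ≤ normalizer (X : Set G) := by
  intro g hg
  rw [mem_normalizer_iff_map_conj_eq] at hg ⊢
  have h1 : cj g X ≤ A := by
    have := cj_mono (g := g) hX
    unfold cj at this ⊢
    have hg' : A.map (MulAut.conj g).toMonoidHom = A := hg
    rwa [hg'] at this
  exact Cfsg.Agent.Helper23.eq_of_card_eq_of_isCyclic A hA _ _ h1 hX (card_cj g X)

/-- the normaliser of a non-trivial subgroup of `A` is that of `A` -/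
theorem normalizer_eq [Finite G] (h : SC A Z) (X : Subgroup G) (hX : X ≤ A) (hX1 : X ≠ ⊥) :
    normalizer (X : Set G) = normalizer (A : Set G) := by
  apply le_antisymm _ (normalizer_le_of_cyclic h.cyc hX)
  have h1 := normalizer_le_normalizer_centralizer X
  rw [h.centralizer_eq X hX hX1] at h1
  exact h1.trans h.normalizer_Z_le

theorem normalizer_A_eq [Finite G] (h : SC A Z) (hA1 : A ≠ ⊥) :
    normalizer (A : Set G) = normalizer (Z : Set G) := by
  apply le_antisymm _ h.normalizer_Z_le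
  have h1 := normalizer_le_normalizer_centralizer A
  rwa [h.centralizer_eq A le_rfl hA1] at h1

/-- an abelian subgroup of order dividing `|A|` is conjugate into `A` -/
theorem exists_conj_le [Finite G] (h : SC A Z) (X : Subgroup G)
    (hXc : ∀ a ∈ X, ∀ b ∈ X, Commute a b) (hcard : Nat.card X ∣ Nat.card A) :
    ∃ g : G, cj g X ≤ A := by
  by_cases hX1 : Nat.card X = 1
  · refine ⟨1, ?_⟩
    rw [cj_one, Subgroup.card_eq_one.1 hX1]
    exact bot_le
  obtain ⟨p, hp, hpd⟩ := Nat.exists_prime_and_dvd hX1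
  have : Fact p.Prime := ⟨hp⟩
  obtain ⟨x, hx⟩ := exists_prime_orderOf_dvd_card' (G := X) p hpd
  have hx1 : (x : G) ≠ 1 := by
    intro e
    have : x = 1 := Subtype.ext e
    rw [this, orderOf_one] at hx
    exact hp.one_lt.ne hx
  obtain ⟨P₀, hP₀⟩ := h.hall p hp (hpd.trans hcard)
  have hpg : IsPGroup p ↥(zpowers (x : G)) := by
    apply IsPGroup.of_card (n := 1)
    rw [Nat.card_zpowers, pow_one, Subgroup.orderOf_coe, hx]
  obtain ⟨P, hP⟩ := hpg.exists_le_sylow
  obtain ⟨g, hg⟩ := MulAction.exists_smul_eq G P P₀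
  refine ⟨g, ?_⟩
  have hxA : g * x * g⁻¹ ∈ A := by
    apply hP₀
    rw [← hg, Sylow.coe_subgroup_smul, mem_pointwise_smul_iff_inv_smul_mem, MulAut.smul_def,
      MulAut.conj_inv_apply]
    have := hP (mem_zpowers (x : G))
    have e : g⁻¹ * (g * (x : G) * g⁻¹) * g = x := by group
    rwa [e]
  apply h.uniq _ _ (by rw [card_cj]; exact hcard)
  intro y hy
  rw [mem_cj] at hy
  apply h.cent _ hxA
  · intro e
    apply hx1
    have : (x : G) = g⁻¹ * (g * x * g⁻¹) * g := by group
    rw [this, e]; group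
  · have := (hXc _ hy _ x.2).eq
    have e1 : y * (g * x * g⁻¹) = g * (g⁻¹ * y * g * x) * g⁻¹ := by group
    have e2 : g * x * g⁻¹ * y = g * (x * (g⁻¹ * y * g)) * g⁻¹ := by group
    rw [Commute, SemiconjBy, e1, e2, this]

/-- cyclic subgroups of the same order dividing `|A|` are conjugate -/
theorem conj_of_card_eq [Finite G] (h : SC A Z) (X Y : Subgroup G) (hX : IsCyclic X)
    (hY : IsCyclic Y) (hcard : Nat.card X ∣ Nat.card A) (hXY : Nat.card X = Nat.card Y) :
    ∃ g : G, Y = cj g X := by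
  have hcX : ∀ a ∈ X, ∀ b ∈ X, Commute a b := by
    intro a ha b hb
    have h2 := (IsCyclic.commGroup (α := X)).mul_comm ⟨a, ha⟩ ⟨b, hb⟩
    exact congrArg Subtype.val h2
  have hcY : ∀ a ∈ Y, ∀ b ∈ Y, Commute a b := by
    intro a ha b hb
    have h2 := (IsCyclic.commGroup (α := Y)).mul_comm ⟨a, ha⟩ ⟨b, hb⟩
    exact congrArg Subtype.val h2
  obtain ⟨g₁, hg₁⟩ := h.exists_conj_le X hcX hcard
  obtain ⟨g₂, hg₂⟩ := h.exists_conj_le Y hcY (hXY ▸ hcard)
  have e : cj g₁ X = cj g₂ Y :=
    Cfsg.Agent.Helper23.eq_of_card_eq_of_isCyclic A h.cyc _ _ hg₁ hg₂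
      (by rw [card_cj, card_cj, hXY])
  refine ⟨g₂⁻¹ * g₁, ?_⟩
  rw [← cj_cj, e, cj_inv_cj]

/-- a cyclic subgroup of order `|A|` is a conjugate of `A` -/
theorem eq_cj_of_card_eq [Finite G] (h : SC A Z) (X : Subgroup G) (hX : IsCyclic X)
    (hXA : Nat.card X = Nat.card A) : ∃ g : G, X = cj g A := by
  obtain ⟨g, hg⟩ := h.conj_of_card_eq A X h.cyc hX dvd_rfl hXA.symm
  exact ⟨g, hg⟩

end SC

end Cfsg.Agent.Helper6.ReeLoc
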