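import Mathlib
import Cfsg.Agent.Helper6.ReeLoc.SC

set_option autoImplicit false
set_option linter.unusedSectionVars false
set_option linter.unusedVariables false

/-!
The local data of `²G₂(q)`, `q = 3^(2m+1)`, as hypotheses on an abstract group: the interface
between the Ree-specific facts and the abstract counting arguments.
-/

namespace Cfsg.Agent.Helper6.ReeLoc

/-- the local data of a group of Ree type (without the two families of order `q ± r + 1`) -/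
structure ReeHyp (G : Type*) [Group G] (m : ℕ) where
  hm : 1 ≤ m
  card : Nat.card G =
    (3 ^ (2 * m + 1)) ^ 3 * (3 ^ (2 * m + 1) - 1) * ((3 ^ (2 * m + 1)) ^ 3 + 1)
  -- elements of order divisible by `3`
  three_orders : ∀ g : G, 3 ∣ orderOf g → orderOf g = 3 ∨ orderOf g = 6 ∨ orderOf g = 9
  card3 : Nat.card {g : G // orderOf g = 3} =
    ((3 ^ (2 * m + 1)) ^ 2 - 1) * ((3 ^ (2 * m + 1)) ^ 3 + 1)
  card9 : Nat.card {g : G // orderOf g = 9} =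
    (3 ^ (2 * m + 1)) ^ 2 * (3 ^ (2 * m + 1) - 1) * ((3 ^ (2 * m + 1)) ^ 3 + 1)
  card6 : Nat.card {g : G // orderOf g = 6} =
    (3 ^ (2 * m + 1)) ^ 2 * (3 ^ (2 * m + 1) - 1) * ((3 ^ (2 * m + 1)) ^ 3 + 1)
  cent3 : ∀ x y : G, orderOf x = 3 → Commute y x →
    y ^ ((3 ^ (2 * m + 1)) ^ 3 * (3 ^ (2 * m + 1) - 1)) = 1
  ti3 : ∀ P Q : Sylow 3 G, P ≠ Q → (P : Subgroup G) ⊓ (Q : Subgroup G) = ⊥
  -- `2`-elements
  S2 : Sylow 2 G
  S2_card : Nat.card S2 = 8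
  S2_exp : ∀ x ∈ S2, x * x = 1
  S2_cent : Subgroup.centralizer ((S2 : Subgroup G) : Set G) = S2
  S2_norm : Nat.card (Subgroup.normalizer ((S2 : Subgroup G) : Set G)) = 168
  card2 : Nat.card {g : G // orderOf g = 2} =
    (3 ^ (2 * m + 1)) ^ 2 * ((3 ^ (2 * m + 1)) ^ 2 - 3 ^ (2 * m + 1) + 1)
  cent2 : ∀ x y : G, orderOf x = 2 → Commute y x →
    y ^ (3 ^ (2 * m + 1) * ((3 ^ (2 * m + 1)) ^ 2 - 1)) = 1
  -- cyclic Sylow subgroups
  sylow_cyc : ∀ p : ℕ, p.Prime → 3 < p → ∀ P : Sylow p G, IsCyclic P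
  -- the family of order `(q - 1)/2`, with centraliser `ZH` cyclic of order `q - 1`
  AH : Subgroup G
  ZH : Subgroup G
  scH : SC AH ZH
  cardAH : Nat.card AH = (3 ^ (2 * m + 1) - 1) / 2
  cardZH : Nat.card ZH = 3 ^ (2 * m + 1) - 1
  cycZH : IsCyclic ZH
  normZH : Nat.card (Subgroup.normalizer (ZH : Set G)) = 2 * (3 ^ (2 * m + 1) - 1)
  -- the family of order `(q + 1)/4`, with centraliser `T = V × A1` abelian of order `q + 1`
  A1 : Subgroup G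
  T : Subgroup G
  V : Subgroup G
  scT : SC A1 T
  cardA1 : Nat.card A1 = (3 ^ (2 * m + 1) + 1) / 4
  cardT : Nat.card T = 3 ^ (2 * m + 1) + 1
  normT : Nat.card (Subgroup.normalizer (T : Set G)) = 6 * (3 ^ (2 * m + 1) + 1)
  V_le : V ≤ T
  cardV : Nat.card V = 4
  normV : Subgroup.normalizer (V : Set G) = Subgroup.normalizer (T : Set G)
  -- elements of prime order dividing `q² - q + 1`
  pi_comm : ∀ p : ℕ, p.Prime → p ∣ (3 ^ (2 * m + 1)) ^ 2 - 3 ^ (2 * m + 1) + 1 →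
    ∀ x : G, orderOf x = p → ∀ a b : G, Commute a x → Commute b x → Commute a b
  pi_norm : ∀ p : ℕ, p.Prime → p ∣ (3 ^ (2 * m + 1)) ^ 2 - 3 ^ (2 * m + 1) + 1 →
    ∀ x : G, orderOf x = p → ∀ (g : G) (k : ℕ), g * x * g⁻¹ = x ^ k →
      ∃ i : ℕ, i < 6 ∧ k ≡ (3 ^ (2 * m + 1)) ^ i [MOD p]

/-- the full local data: with the two families of order `q ± r + 1` and the classification of the
elements -/
structure ReeFull (G : Type*) [Group G] (m : ℕ) extends ReeHyp G m where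
  Ap : Subgroup G
  Am : Subgroup G
  scP : SC Ap Ap
  scM : SC Am Am
  cardAp : Nat.card Ap = 3 ^ (2 * m + 1) + 3 ^ (m + 1) + 1
  cardAm : Nat.card Am = 3 ^ (2 * m + 1) - 3 ^ (m + 1) + 1
  normAp : Nat.card (Subgroup.normalizer (Ap : Set G)) =
    6 * (3 ^ (2 * m + 1) + 3 ^ (m + 1) + 1)
  normAm : Nat.card (Subgroup.normalizer (Am : Set G)) =
    6 * (3 ^ (2 * m + 1) - 3 ^ (m + 1) + 1)
  classify : ∀ g : G, g ≠ 1 → 3 ∣ orderOf g ∨ orderOf g = 2 ∨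
    (∃ a : G, a * g * a⁻¹ ∈ ZH ∧ g * g ≠ 1) ∨ (∃ a : G, a * g * a⁻¹ ∈ T ∧ g * g ≠ 1) ∨
    (∃ a : G, a * g * a⁻¹ ∈ Ap) ∨ (∃ a : G, a * g * a⁻¹ ∈ Am)

end Cfsg.Agent.Helper6.ReeLoc
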