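import Mathlib
import Cfsg.Agent.Helper23.Cyclic

set_option autoImplicit false
set_option linter.unusedSectionVars false
set_option linter.unusedVariables false

/-!
Subgroups of cyclic subgroups; Hall subgroups contain Sylow subgroups.
-/

namespace Cfsg.Agent.Helper6.ReeLoc

open Subgroup

variable {G : Type*} [Group G]

/-- a cyclic subgroup has a subgroup of every order dividing its order -/
theorem exists_subgroup_card_of_cyclic [Finite G] (Z : Subgroup G) (hZ : IsCyclic Z) {d : ℕ}
    (hd : d ∣ Nat.card Z) : ∃ X : Subgroup G, X ≤ Z ∧ Nat.card X = d ∧ IsCyclic X := by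
  obtain ⟨g, hg⟩ := hZ.exists_generator
  have hord : orderOf g = Nat.card Z := orderOf_eq_card_of_forall_mem_zpowers hg
  obtain ⟨e, he⟩ := hd
  have hpos : 0 < Nat.card Z := Nat.card_pos
  have hd0 : 0 < d := Nat.pos_of_ne_zero (by rintro rfl; rw [zero_mul] at he; omega)
  have he0 : 0 < e := Nat.pos_of_ne_zero (by rintro rfl; rw [mul_zero] at he; omega)
  refine ⟨zpowers ((g : G) ^ e), ?_, ?_, ?_⟩
  · rw [zpowers_le]
    exact Z.pow_mem g.2 e
  · rw [Nat.card_zpowers, ← Subgroup.coe_pow, Subgroup.orderOf_coe, orderOf_pow, hord, he,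
      Nat.gcd_mul_left_left, Nat.mul_div_cancel _ he0]
  · exact isCyclic_zpowers _  

/-- a subgroup whose order has the full `p`-part contains a Sylow `p`-subgroup -/
theorem exists_sylow_le_of_factorization [Finite G] (A : Subgroup G) (p : ℕ) [Fact p.Prime]
    (h : (Nat.card A).factorization p = (Nat.card G).factorization p) :
    ∃ P : Sylow p G, (P : Subgroup G) ≤ A := by
  obtain ⟨Q⟩ : Nonempty (Sylow p A) := inferInstance
  have hQ : Nat.card (Q : Subgroup A) = p ^ (Nat.card A).factorization p := Q.card_eq_multiplicity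
  have hcard : Nat.card ((Q : Subgroup A).map A.subtype) = p ^ (Nat.card G).factorization p := by
    rw [← h, ← hQ]
    exact Nat.card_congr ((Q : Subgroup A).equivMapOfInjective A.subtype
      A.subtype_injective).symm.toEquiv
  refine ⟨Sylow.ofCard _ hcard, ?_⟩
  rw [Sylow.coe_ofCard]
  exact Subgroup.map_subtype_le _

/-- a Hall subgroup contains Sylow subgroups -/
theorem hall_of_not_dvd [Finite G] (A : Subgroup G) (c : ℕ) (hG : Nat.card G = Nat.card A * c)
    (h : ∀ p : ℕ, p.Prime → p ∣ Nat.card A → ¬ p ∣ c) :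
    ∀ p : ℕ, p.Prime → p ∣ Nat.card A → ∃ P : Sylow p G, (P : Subgroup G) ≤ A := by
  intro p hp hpd
  have : Fact p.Prime := ⟨hp⟩
  apply exists_sylow_le_of_factorization
  have hA0 : Nat.card A ≠ 0 := Nat.card_pos.ne'
  have hc0 : c ≠ 0 := by
    rintro rfl
    rw [mul_zero] at hG
    exact (Nat.card_pos (α := G)).ne' hG
  rw [hG, Nat.factorization_mul hA0 hc0, Finsupp.add_apply,
    Nat.factorization_eq_zero_of_not_dvd (h p hp hpd), add_zero]

/-- an abelian group with a cyclic subgroup `A` of odd order `k` and index `4` whose elements of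
`2`-power order square to `1`: the subgroups of order dividing `k` lie in `A` -/
theorem le_of_card_dvd_of_index_four [Finite G] (T A : Subgroup G) (hAT : A ≤ T)
    (hcomm : ∀ a ∈ T, ∀ b ∈ T, Commute a b) {k : ℕ} (hk : Odd k) (hA : Nat.card A = k)
    (hT : Nat.card T = 4 * k) (X : Subgroup G) (hX : X ≤ T) (hXk : Nat.card X ∣ k) : X ≤ A := by
  classical
  -- the subgroup of `k`-th roots of unity in `T`
  let R : Subgroup G :=
    { carrier := {t | t ∈ T ∧ t ^ k = 1}
      one_mem' := ⟨T.one_mem, one_pow k⟩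
      mul_mem' := by
        rintro a b ⟨ha, ha'⟩ ⟨hb, hb'⟩
        exact ⟨T.mul_mem ha hb, by rw [(hcomm a ha b hb).mul_pow, ha', hb', one_mul]⟩
      inv_mem' := by
        rintro a ⟨ha, ha'⟩
        exact ⟨T.inv_mem ha, by rw [inv_pow, ha', inv_one]⟩ }
  have hAR : A ≤ R := by
    intro a ha
    refine ⟨hAT ha, ?_⟩
    have : (⟨a, ha⟩ : A) ^ Nat.card A = 1 := pow_card_eq_one'
    rw [hA] at this
    exact congrArg Subtype.val this
  have hRT : R ≤ T := fun t ht => ht.1
  have hXR : X ≤ R := by
    intro x hx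
    refine ⟨hX hx, ?_⟩
    have : (⟨x, hx⟩ : X) ^ Nat.card X = 1 := pow_card_eq_one'
    obtain ⟨e, he⟩ := hXk
    have h2 := congrArg Subtype.val this
    simp only [Subgroup.coe_pow, Subgroup.coe_one] at h2
    rw [he, pow_mul, h2, one_pow]
  -- `|R|` is odd and divides `4k`
  have hRodd : Odd (Nat.card R) := by
    by_contra hne
    rw [Nat.not_odd_iff_even] at hne
    have h2 : 2 ∣ Nat.card R := hne.two_dvd
    have : Fact (Nat.Prime 2) := ⟨Nat.prime_two⟩
    obtain ⟨r, hr⟩ := exists_prime_orderOf_dvd_card' (G := R) 2 h2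
    have hr2 : (r : G) ^ 2 = 1 := by
      have : r ^ 2 = 1 := by rw [← hr]; exact pow_orderOf_eq_one r
      exact congrArg Subtype.val this
    have hrk : (r : G) ^ k = 1 := r.2.2
    obtain ⟨j, hj⟩ := hk
    have : (r : G) = 1 := by
      have : (r : G) ^ k = ((r : G) ^ 2) ^ j * r := by rw [hj, pow_succ, pow_mul]
      rw [hr2, one_pow, one_mul] at this
      rw [← this, hrk]
    have : r = 1 := Subtype.ext this
    rw [this, orderOf_one] at hr
    norm_num at hr
  have hRdvd : Nat.card R ∣ 4 * k := by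
    rw [← hT]
    have := Subgroup.card_dvd_of_le hRT
    exact this
  have hRk : Nat.card R ∣ k := by
    have hcop : Nat.Coprime (Nat.card R) 4 := by
      have : Nat.Coprime (Nat.card R) 2 := Nat.Coprime.symm (Nat.coprime_two_left.2 hRodd)
      have h4 : (4 : ℕ) = 2 ^ 2 := by norm_num
      rw [h4]
      exact Nat.Coprime.pow_right 2 this
    exact hcop.dvd_of_dvd_mul_left hRdvd
  have hRA : R = A := by
    symm
    apply Subgroup.eq_of_le_of_card_ge hAR
    rw [hA]
    exact Nat.le_of_dvd hk.pos hRk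
  rw [← hRA]
  exact hXR

end Cfsg.Agent.Helper6.ReeLoc
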