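import Mathlib
import Cfsg.Agent.Helper6.ReeAut.Abstract

set_option autoImplicit false
set_option linter.unusedSectionVars false
set_option linter.unusedVariables false

/-!
Centralisers and normaliser of the torus in rank one data with a torus acting freely.
-/

namespace Cfsg.Agent.Helper6.ReeAut

namespace R1Data

variable {G : Type*} [Group G] (D : R1Data G)

theorem U_inf_H {u : G} (hu : u ∈ D.U) (hh : u ∈ D.H) : u = 1 :=
  D.nU u hu (D.H_le_B (D.hnH u hh))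

/-- the commutator `u h u⁻¹ h⁻¹` lies in `U` -/
theorem comm_mem_U {u h : G} (hu : u ∈ D.U) (hh : h ∈ D.H) : u * h * u⁻¹ * h⁻¹ ∈ D.U := by
  have e : u * h * u⁻¹ * h⁻¹ = u * (h * u⁻¹ * h⁻¹) := by group
  rw [e]
  exact D.U.mul_mem hu (D.hHU h hh _ (D.U.inv_mem hu))

/-- if `h ∈ H` acts freely on `U` and `b⁻¹ h b` is moved into `B` by `n`, then `b ∈ H` -/
theorem mem_H_of_conj {h : G} (hh : h ∈ D.H) (hcomm : ∀ a ∈ D.H, ∀ b ∈ D.H, Commute a b)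
    (hfree : ∀ u ∈ D.U, Commute h u → u = 1) {b : G} (hb : b ∈ D.B)
    (h1 : D.n⁻¹ * (b⁻¹ * h * b) * D.n ∈ D.B) : b ∈ D.H := by
  obtain ⟨u₀, hu₀, h₀, hh₀, rfl⟩ := (D.mem_B b).1 hb
  have hc : h₀⁻¹ * h * h₀ = h := by
    have := (hcomm h hh h₀ hh₀).eq
    calc h₀⁻¹ * h * h₀ = h₀⁻¹ * (h * h₀) := by group
      _ = h₀⁻¹ * (h₀ * h) := by rw [this]
      _ = h := by group
  set u' := h₀⁻¹ * (u₀⁻¹ * h * u₀ * h⁻¹) * h₀ with hu'
  have hu'U : u' ∈ D.U := by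
    have h2 : u₀⁻¹ * h * u₀ * h⁻¹ ∈ D.U := by
      have := D.comm_mem_U (D.U.inv_mem hu₀) hh
      simpa using this
    have := D.hHU h₀⁻¹ (D.H.inv_mem hh₀) _ h2
    simpa [hu'] using this
  have e : (u₀ * h₀)⁻¹ * h * (u₀ * h₀) = u' * h := by
    rw [hu']
    calc (u₀ * h₀)⁻¹ * h * (u₀ * h₀) = h₀⁻¹ * (u₀⁻¹ * h * u₀ * h⁻¹) * h₀ * (h₀⁻¹ * h * h₀) := by group
      _ = h₀⁻¹ * (u₀⁻¹ * h * u₀ * h⁻¹) * h₀ * h := by rw [hc]
  rw [e] at h1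
  have h2 : D.n⁻¹ * u' * D.n ∈ D.B := by
    have e2 : D.n⁻¹ * u' * D.n = (D.n⁻¹ * (u' * h) * D.n) * (D.n⁻¹ * h * D.n)⁻¹ := by group
    rw [e2]
    exact D.B.mul_mem h1 (D.B.inv_mem (D.H_le_B (D.n_inv_H hh)))
  have h3 : u' = 1 := D.nU' hu'U h2
  have h4 : u₀⁻¹ * h * u₀ * h⁻¹ = 1 := by
    have : u₀⁻¹ * h * u₀ * h⁻¹ = h₀ * u' * h₀⁻¹ := by rw [hu']; group
    rw [this, h3]; group
  have h5 : Commute h u₀ := by
    have : h * u₀ = u₀ * (u₀⁻¹ * h * u₀ * h⁻¹) * h := by group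
    rw [Commute, SemiconjBy, this, h4, mul_one]
  rw [hfree u₀ hu₀ h5, one_mul]
  exact hh₀

/-- if `h ∈ H` acts freely on `U` and `n (u h u⁻¹) n⁻¹ ∈ B` then `u = 1` -/
theorem eq_one_of_conj {h : G} (hh : h ∈ D.H)
    (hfree : ∀ u ∈ D.U, Commute h u → u = 1) {u : G} (hu : u ∈ D.U)
    (h1 : D.n * (u * h * u⁻¹) * D.n⁻¹ ∈ D.B) : u = 1 := by
  have h2 : D.n * (u * h * u⁻¹ * h⁻¹) * D.n⁻¹ ∈ D.B := by
    have e : D.n * (u * h * u⁻¹ * h⁻¹) * D.n⁻¹ =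
        (D.n * (u * h * u⁻¹) * D.n⁻¹) * (D.n * h * D.n⁻¹)⁻¹ := by group
    rw [e]
    exact D.B.mul_mem h1 (D.B.inv_mem (D.H_le_B (D.hnH h hh)))
  have h3 := D.nU _ (D.comm_mem_U hu hh) h2
  apply hfree u hu
  have : h * u = (u * h * u⁻¹ * h⁻¹)⁻¹ * u * h := by group
  rw [Commute, SemiconjBy, this, h3, inv_one, one_mul]

/-- the centraliser of an element of `H` acting freely on `U` and not inverted by `n` -/
theorem cent_le_H {h : G} (hh : h ∈ D.H) (hcomm : ∀ a ∈ D.H, ∀ b ∈ D.H, Commute a b)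
    (hfree : ∀ u ∈ D.U, Commute h u → u = 1) (hn : D.n * h * D.n⁻¹ ≠ h) {g : G}
    (hg : Commute g h) : g ∈ D.H := by
  rcases D.bruhat g with hB | ⟨b, hb, u, hu, rfl⟩
  · -- `g ∈ B`
    have h1 : D.n⁻¹ * (1⁻¹ * h * 1) * D.n ∈ D.B := by
      simpa using D.H_le_B (D.n_inv_H hh)
    obtain ⟨u₀, hu₀, h₀, hh₀, rfl⟩ := (D.mem_B g).1 hB
    have hc := (hcomm h hh h₀ hh₀).eq
    have h5 : Commute h u₀ := by
      have e1 : u₀ * h₀ * h = h * (u₀ * h₀) := hg.eq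
      have : h * u₀ = (h * (u₀ * h₀)) * h₀⁻¹ := by group
      rw [Commute, SemiconjBy, this, ← e1]
      calc u₀ * h₀ * h * h₀⁻¹ = u₀ * (h₀ * h) * h₀⁻¹ := by group
        _ = u₀ * (h * h₀) * h₀⁻¹ := by rw [hc]
        _ = u₀ * h := by group
    rw [hfree u₀ hu₀ h5, one_mul]
    exact hh₀
  · exfalso
    have e0 : b * D.n * u * h = h * (b * D.n * u) := hg.eq
    -- `g⁻¹ h g = h ∈ B`
    have h1 : D.n⁻¹ * (b⁻¹ * h * b) * D.n ∈ D.B := by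
      have e : D.n⁻¹ * (b⁻¹ * h * b) * D.n = u * ((b * D.n * u)⁻¹ * (h * (b * D.n * u))) * u⁻¹ := by
        group
      rw [e, ← e0]
      have : u * ((b * D.n * u)⁻¹ * (b * D.n * u * h)) * u⁻¹ = u * h * u⁻¹ := by group
      rw [this]
      exact D.B.mul_mem (D.B.mul_mem (D.U_le_B hu) (D.H_le_B hh)) (D.B.inv_mem (D.U_le_B hu))
    have hbH := D.mem_H_of_conj hh hcomm hfree hb h1
    -- `g h g⁻¹ = h ∈ B`
    have h2 : D.n * (u * h * u⁻¹) * D.n⁻¹ ∈ D.B := by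
      have e : D.n * (u * h * u⁻¹) * D.n⁻¹ = b⁻¹ * ((b * D.n * u * h) * (b * D.n * u)⁻¹) * b := by
        group
      rw [e, e0]
      have : b⁻¹ * (h * (b * D.n * u) * (b * D.n * u)⁻¹) * b = b⁻¹ * h * b := by group
      rw [this]
      exact D.B.mul_mem (D.B.mul_mem (D.B.inv_mem hb) (D.H_le_B hh)) hb
    have hu1 := D.eq_one_of_conj hh hfree hu h2
    subst hu1
    apply hn
    have hc := (hcomm h hh b hbH).eq
    have : D.n * h * D.n⁻¹ = b⁻¹ * (b * D.n * 1 * h) * (b * D.n * 1)⁻¹ * b := by group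
    rw [this, e0]
    calc b⁻¹ * (h * (b * D.n * 1)) * (b * D.n * 1)⁻¹ * b = b⁻¹ * (h * b) := by group
      _ = b⁻¹ * (b * h) := by rw [hc]
      _ = h := by group

/-- the normaliser of `H` lies in `H ∪ H n` -/
theorem normalizer_H_le (hcomm : ∀ a ∈ D.H, ∀ b ∈ D.H, Commute a b)
    (hfree : ∀ h ∈ D.H, h * h ≠ 1 → ∀ u ∈ D.U, Commute h u → u = 1)
    (hex : ∃ h ∈ D.H, h * h ≠ 1) {g : G}
    (hg : ∀ x, x ∈ D.H ↔ g * x * g⁻¹ ∈ D.H) : g ∈ D.H ∨ ∃ h₀ ∈ D.H, g = h₀ * D.n := by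
  obtain ⟨h, hh, hh2⟩ := hex
  rcases D.bruhat g with hB | ⟨b, hb, u, hu, rfl⟩
  · left
    obtain ⟨u₀, hu₀, h₀, hh₀, rfl⟩ := (D.mem_B g).1 hB
    have hc := (hcomm h hh h₀ hh₀).eq
    have h1 : u₀ * h * u₀⁻¹ ∈ D.H := by
      have := (hg h).1 hh
      have e : u₀ * h₀ * h * (u₀ * h₀)⁻¹ = u₀ * (h₀ * h) * h₀⁻¹ * u₀⁻¹ := by group
      rw [e, ← hc] at this
      have e2 : u₀ * (h * h₀) * h₀⁻¹ * u₀⁻¹ = u₀ * h * u₀⁻¹ := by group
      rwa [e2] at this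
    have h2 : u₀ * h * u₀⁻¹ * h⁻¹ = 1 :=
      D.U_inf_H (D.comm_mem_U hu₀ hh) (D.H.mul_mem h1 (D.H.inv_mem hh))
    have h5 : Commute h u₀ := by
      have : h * u₀ = (u₀ * h * u₀⁻¹ * h⁻¹)⁻¹ * u₀ * h := by group
      rw [Commute, SemiconjBy, this, h2, inv_one, one_mul]
    rw [hfree h hh hh2 u₀ hu₀ h5, one_mul]
    exact hh₀
  · right
    -- `h' = g⁻¹ h g ∈ H`
    have hh' : (b * D.n * u)⁻¹ * h * (b * D.n * u) ∈ D.H := by
      rw [hg]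
      have : b * D.n * u * ((b * D.n * u)⁻¹ * h * (b * D.n * u)) * (b * D.n * u)⁻¹ = h := by group
      rw [this]; exact hh
    set h' := (b * D.n * u)⁻¹ * h * (b * D.n * u) with hh'def
    have hh'2 : h' * h' ≠ 1 := by
      intro h0
      apply hh2
      have : h * h = (b * D.n * u) * (h' * h') * (b * D.n * u)⁻¹ := by rw [hh'def]; group
      rw [this, h0]; group
    have h1 : D.n⁻¹ * (b⁻¹ * h * b) * D.n ∈ D.B := by
      have e : D.n⁻¹ * (b⁻¹ * h * b) * D.n = u * h' * u⁻¹ := by rw [hh'def]; group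
      rw [e]
      exact D.B.mul_mem (D.B.mul_mem (D.U_le_B hu) (D.H_le_B hh')) (D.B.inv_mem (D.U_le_B hu))
    have hbH := D.mem_H_of_conj hh hcomm (hfree h hh hh2) hb h1
    have h2 : D.n * (u * h' * u⁻¹) * D.n⁻¹ ∈ D.B := by
      have e : D.n * (u * h' * u⁻¹) * D.n⁻¹ = b⁻¹ * h * b := by rw [hh'def]; group
      rw [e]
      exact D.B.mul_mem (D.B.mul_mem (D.B.inv_mem hb) (D.H_le_B hh)) hb
    have hu1 := D.eq_one_of_conj hh' (hfree h' hh' hh'2) hu h2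
    exact ⟨b, hbH, by rw [hu1, mul_one]⟩

end R1Data

end Cfsg.Agent.Helper6.ReeAut
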