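import Mathlib
import Cfsg.Agent.Helper6.ReeLoc.R1Cent
import Cfsg.Agent.Helper6.ReeAut.UFacts
import Cfsg.Agent.Helper6.Ree.G2Inv4

set_option autoImplicit false
set_option linter.unusedSectionVars false
set_option linter.unusedVariables false

/-!
The split torus `H¹` of `²G₂(q)`: centralisers of its elements and its normaliser.
-/

namespace Cfsg.Agent.Helper6.ReeLoc

open Cfsg.Lie Cfsg.Agent.Helper6 Cfsg.Agent.Helper6.Ree Cfsg.Agent.Helper6.ReeAut

variable {K : Type*} [Field K] [Fintype K] {m : ℕ} (C : ReeCtx K m)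
  (hK : Fintype.card K = 3 ^ (2 * m + 1)) (Φ : InvHom K m)

include C hK

/-- the torus as a homomorphism -/
noncomputable def hTHom : Kˣ →* ↥(twistedG2 K (3 ^ m)) where
  toFun w := hT C hK w
  map_one' := Subtype.ext (map_one (hwHom K m))
  map_mul' a b := Subtype.ext (map_mul (hwHom K m) a b)

theorem hTHom_apply (w : Kˣ) : hTHom C hK w = hT C hK w := rfl

theorem range_hTHom : (hTHom C hK).range = H1 K m := by
  ext g
  constructor
  · rintro ⟨w, rfl⟩
    exact hT_mem_H1 C hK w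
  · intro hg
    obtain ⟨w, rfl⟩ := exists_hT C hK hg
    exact ⟨w, rfl⟩

theorem H1_comm : ∀ a ∈ H1 K m, ∀ b ∈ H1 K m, Commute a b := by
  intro a ha b hb
  obtain ⟨w, rfl⟩ := exists_hT C hK ha
  obtain ⟨w', rfl⟩ := exists_hT C hK hb
  rw [← hTHom_apply, ← hTHom_apply, Commute, SemiconjBy, ← map_mul, ← map_mul, mul_comm]

theorem isCyclic_H1 : IsCyclic ↥(H1 K m) := by
  rw [← range_hTHom C hK]
  exact isCyclic_of_surjective (hTHom C hK).rangeRestrict (hTHom C hK).rangeRestrict_surjective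

theorem card_H1 : Nat.card ↥(H1 K m) = 3 ^ (2 * m + 1) - 1 := by
  classical
  rw [← range_hTHom C hK]
  rw [Nat.card_congr (MonoidHom.ofInjective (f := hTHom C hK) (hT_injective C hK)).symm.toEquiv,
    Nat.card_eq_fintype_card, Fintype.card_units, hK]

/-- elements of `H¹` other than `1`, `h(-1)` act freely on `U¹` -/
theorem H1_free : ∀ h ∈ H1 K m, h * h ≠ 1 → ∀ u ∈ ReeCtx.U1 (K := K) (m := m), Commute h u → u = 1 := by
  intro h hh h2 u hu hc
  by_contra hu1
  rw [mem_H1] at hh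
  rw [ReeCtx.mem_U1] at hu
  have hc' : (h : GL chevG2.Idx K) * u = u * h := by
    have := congrArg Subtype.val hc.eq
    simpa using this
  rcases C.cent_torus hK (t := (h : GL chevG2.Idx K)) (u := (u : GL chevG2.Idx K)) ⟨hh, h.2⟩ ⟨hu, u.2⟩
    (fun e => hu1 (Subtype.ext e)) hc' with e | e
  · apply h2
    apply Subtype.ext
    simp [e]
  · apply h2
    apply Subtype.ext
    simp only [Subgroup.coe_mul, e, Subgroup.coe_one]
    rw [← map_mul]; simp

include Φ in
/-- `n₀` inverts the torus -/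
theorem nG_conj_hT (w : Kˣ) : nG K m * hT C hK w * (nG K m)⁻¹ = (hT C hK w)⁻¹ := by
  have := C.char3
  -- the subgroup of inverted elements
  let S : Subgroup Kˣ :=
    { carrier := {w | n0 K m * hwHom K m w * (n0 K m)⁻¹ = (hwHom K m w)⁻¹}
      one_mem' := by simp
      mul_mem' := by
        intro a b ha hb
        simp only [Set.mem_ofPred_eq] at ha hb ⊢
        rw [map_mul, mul_inv_rev, ← ha, ← hb]
        have hc : hwHom K m a * hwHom K m b = hwHom K m b * hwHom K m a := by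
          rw [← map_mul, ← map_mul, mul_comm]
        rw [hc]; group
      inv_mem' := by
        intro a ha
        simp only [Set.mem_ofPred_eq] at ha ⊢
        rw [map_inv, inv_inv]
        have : n0 K m * (hwHom K m a)⁻¹ * (n0 K m)⁻¹ = (n0 K m * hwHom K m a * (n0 K m)⁻¹)⁻¹ := by
          group
        rw [this, ha, inv_inv] }
  have hn0 : n0 K m = Φ.φ (wSL 1) := by
    unfold wSL
    rw [map_mul, map_mul, Φ.upper, Φ.lower]
    simp only [inv_one, neg_neg]
    rfl
  have hS : ∀ w : Kˣ, w ∈ S := by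
    apply units_mem_of_pow_of_neg hK S
    · intro z
      show n0 K m * hwHom K m (z ^ (3 * 3 ^ m + 1)) * (n0 K m)⁻¹ = (hwHom K m (z ^ (3 * 3 ^ m + 1)))⁻¹
      rw [← C.hh_eq_hw z, ← Φ.diag (z : K) z.ne_zero, hn0, ← map_inv, ← map_mul, ← map_mul, ← map_inv]
      congr 1
      apply Subtype.ext
      have hinv : ((diagSL z.ne_zero : Matrix.SpecialLinearGroup (Fin 2) K)⁻¹ :
          Matrix.SpecialLinearGroup (Fin 2) K) = diagSL (inv_ne_zero z.ne_zero) := by
        rw [inv_eq_iff_mul_eq_one]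
        apply Subtype.ext
        rw [Matrix.SpecialLinearGroup.coe_mul, diagSL_coe, diagSL_coe, Matrix.mul_fin_two]
        have := z.ne_zero
        rw [Matrix.SpecialLinearGroup.coe_one, Matrix.one_fin_two]
        apply Cfsg.Agent.Helper2.St2.mk2_eq <;> simp [this]
      have hwinv : ((wSL (1 : K))⁻¹ : Matrix.SpecialLinearGroup (Fin 2) K) = wSL (-1) := by
        rw [inv_eq_iff_mul_eq_one]
        apply Subtype.ext
        rw [Matrix.SpecialLinearGroup.coe_mul, wSL_coe one_ne_zero,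
          wSL_coe (neg_ne_zero.2 one_ne_zero), Matrix.mul_fin_two,
          Matrix.SpecialLinearGroup.coe_one, Matrix.one_fin_two]
        apply Cfsg.Agent.Helper2.St2.mk2_eq <;> simp
      rw [hinv, hwinv, Matrix.SpecialLinearGroup.coe_mul, Matrix.SpecialLinearGroup.coe_mul,
        wSL_coe one_ne_zero, wSL_coe (neg_ne_zero.2 one_ne_zero), diagSL_coe, diagSL_coe,
        Matrix.mul_fin_two, Matrix.mul_fin_two]
      apply Cfsg.Agent.Helper2.St2.mk2_eq <;> simp
    · show n0 K m * hwHom K m (-1) * (n0 K m)⁻¹ = (hwHom K m (-1))⁻¹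
      rw [hn0, ← (Φ.comm_neg_one (wSL 1)).eq, mul_inv_cancel_right]
      rw [eq_inv_iff_mul_eq_one, ← map_mul]; simp
  apply Subtype.ext
  exact hS w

include Φ in
theorem nG_conj_H1 : ∀ h ∈ H1 K m, nG K m * h * (nG K m)⁻¹ = h⁻¹ := by
  intro h hh
  obtain ⟨w, rfl⟩ := exists_hT C hK hh
  exact nG_conj_hT C hK Φ w

include Φ in
/-- the centraliser of an element of `H¹` whose square is not `1` -/
theorem cent_H1 {h : ↥(twistedG2 K (3 ^ m))} (hh : h ∈ H1 K m) (h2 : h * h ≠ 1)
    {g : ↥(twistedG2 K (3 ^ m))} (hg : Commute g h) : g ∈ H1 K m := by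
  refine (r1 C).cent_le_H (h := h) hh (H1_comm C hK) (H1_free C hK h hh h2) ?_ hg
  show nG K m * h * (nG K m)⁻¹ ≠ h
  rw [nG_conj_H1 C hK Φ h hh]
  intro e
  apply h2
  nth_rewrite 1 [← e]
  rw [inv_mul_cancel]

omit [Fintype K] C hK in
theorem three_le (m : ℕ) : 27 ≤ 3 ^ (2 * m + 1) ∨ m = 0 := by
  rcases Nat.eq_zero_or_pos m with h | h
  · right; exact h
  · left
    calc 27 = 3 ^ (2 * 1 + 1) := by norm_num
      _ ≤ 3 ^ (2 * m + 1) := Nat.pow_le_pow_right (by norm_num) (by omega)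

/-- for `q ≥ 27` the torus has an element whose square is not `1` -/
theorem exists_sq_ne (hm : 1 ≤ m) : ∃ h ∈ H1 K m, h * h ≠ 1 := by
  have := isCyclic_H1 C hK
  obtain ⟨g, hg⟩ := IsCyclic.exists_generator (α := ↥(H1 K m))
  refine ⟨g, g.2, ?_⟩
  intro h
  have h1 : g ^ 2 = 1 := by
    apply Subtype.ext
    rw [pow_two]
    exact h
  have h2 : orderOf g = Nat.card ↥(H1 K m) := orderOf_eq_card_of_forall_mem_zpowers hg
  rw [card_H1 C hK] at h2
  have h3 := orderOf_dvd_of_pow_eq_one h1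
  rw [h2] at h3
  have h4 := Nat.le_of_dvd (by norm_num) h3
  rcases three_le m with h5 | h5 <;> omega

include Φ in
/-- the normaliser of `H¹` is `H¹ ∪ H¹ n₀` -/
theorem mem_normalizer_H1 (hm : 1 ≤ m) {g : ↥(twistedG2 K (3 ^ m))} :
    g ∈ Subgroup.normalizer ((H1 K m : Subgroup ↥(twistedG2 K (3 ^ m))) : Set ↥(twistedG2 K (3 ^ m))) ↔
      g ∈ H1 K m ∨ ∃ h₀ ∈ H1 K m, g = h₀ * nG K m := by
  constructor
  · intro hg
    rw [Subgroup.mem_normalizer_iff] at hg
    exact (r1 C).normalizer_H_le (H1_comm C hK) (H1_free C hK) (exists_sq_ne C hK hm) hg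
  · rintro (hg | ⟨h₀, hh₀, rfl⟩)
    · exact Subgroup.le_normalizer hg
    · refine Subgroup.mul_mem _ (Subgroup.le_normalizer hh₀) ?_
      rw [Subgroup.mem_normalizer_iff]
      intro x
      constructor
      · intro hx
        rw [nG_conj_H1 C hK Φ x hx]
        exact Subgroup.inv_mem _ hx
      · intro hx
        have h3 : (nG K m)⁻¹ * (nG K m * x * (nG K m)⁻¹) * nG K m ∈ H1 K m :=
          (r1 C).n_inv_H hx
        have h2 : (nG K m)⁻¹ * (nG K m * x * (nG K m)⁻¹) * nG K m = x := by group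
        rwa [h2] at h3

end Cfsg.Agent.Helper6.ReeLoc
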