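import Mathlib
import Cfsg.Agent.Helper6.ReeLoc.Torus
import Cfsg.Agent.Helper6.ReeLoc.SC
import Cfsg.Agent.Helper6.ReeLoc.Cyc

set_option autoImplicit false
set_option linter.unusedSectionVars false
set_option linter.unusedVariables false

/-!
The cyclic subgroup of order `(q-1)/2` of `²G₂(q)`.
-/

namespace Cfsg.Agent.Helper6.ReeLoc

open Cfsg.Lie Cfsg.Agent.Helper6 Cfsg.Agent.Helper6.Ree Cfsg.Agent.Helper6.ReeAut

theorem q_mod_eight (m : ℕ) : 3 ^ (2 * m + 1) % 8 = 3 := by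
  induction m with
  | zero => norm_num
  | succ n ih =>
    have : 3 ^ (2 * (n + 1) + 1) = 9 * 3 ^ (2 * n + 1) := by ring
    rw [this]; omega

theorem q_ge (m : ℕ) (hm : 1 ≤ m) : 27 ≤ 3 ^ (2 * m + 1) := by
  calc 27 = 3 ^ (2 * 1 + 1) := by norm_num
    _ ≤ 3 ^ (2 * m + 1) := Nat.pow_le_pow_right (by norm_num) (by omega)

/-- the Hall property of `(q-1)/2` -/
theorem hall_arith_H (m : ℕ) (p : ℕ) (hp : p.Prime) (hpd : p ∣ (3 ^ (2 * m + 1) - 1) / 2) :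
    ¬ p ∣ 2 * (3 ^ (2 * m + 1)) ^ 3 * ((3 ^ (2 * m + 1)) ^ 3 + 1) := by
  have h8 := q_mod_eight m
  generalize 3 ^ (2 * m + 1) = q at h8 hpd ⊢
  obtain ⟨a, ha⟩ : ∃ a, q = 2 * a + 1 := ⟨(q - 1) / 2, by omega⟩
  have hpa : p ∣ a := by
    have : (q - 1) / 2 = a := by omega
    rwa [this] at hpd
  have hp2 : p ≠ 2 := by
    rintro rfl
    omega
  have : Fact p.Prime := ⟨hp⟩
  intro hd
  have h1 : ((a : ℕ) : ZMod p) = 0 := (ZMod.natCast_eq_zero_iff a p).2 hpa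
  have h2 : ((2 * q ^ 3 * (q ^ 3 + 1) : ℕ) : ZMod p) = 0 := (ZMod.natCast_eq_zero_iff _ p).2 hd
  have hqz : ((q : ℕ) : ZMod p) = 1 := by
    rw [ha]; push_cast; rw [h1]; ring
  push_cast at h2
  rw [hqz] at h2
  have h4 : ((4 : ℕ) : ZMod p) = 0 := by
    push_cast
    linear_combination h2
  rw [ZMod.natCast_eq_zero_iff] at h4
  have h5 : p ∣ 2 ^ 2 := by norm_num; exact h4
  exact hp2 ((Nat.prime_dvd_prime_iff_eq hp Nat.prime_two).1 (hp.dvd_of_dvd_pow h5))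

variable {K : Type*} [Field K] [Fintype K] {m : ℕ} (C : ReeCtx K m)
  (hK : Fintype.card K = 3 ^ (2 * m + 1)) (Φ : InvHom K m)

include C hK Φ

/-- the cyclic subgroup of order `(q-1)/2` -/
theorem sc_H (hm : 1 ≤ m) : ∃ A : Subgroup ↥(twistedG2 K (3 ^ m)),
    Nat.card A = (3 ^ (2 * m + 1) - 1) / 2 ∧ SC A (H1 K m) := by
  have hfin : Finite ↥(twistedG2 K (3 ^ m)) := Subtype.finite
  have h8 := q_mod_eight m
  have hge := q_ge m hm
  have hdvd : (3 ^ (2 * m + 1) - 1) / 2 ∣ Nat.card ↥(H1 K m) := by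
    rw [card_H1 C hK]
    exact ⟨2, by omega⟩
  obtain ⟨A, hA, hcard, hcyc⟩ := exists_subgroup_card_of_cyclic (H1 K m) (isCyclic_H1 C hK) hdvd
  refine ⟨A, hcard, ?_⟩
  refine ⟨hA, hcyc, ?_, H1_comm C hK, ?_, ?_⟩
  · intro y hy hy1 g hg
    apply cent_H1 C hK Φ (hA hy) _ hg
    intro h2
    apply hy1
    have h3 : orderOf y ∣ 2 := orderOf_dvd_of_pow_eq_one (by rw [pow_two]; exact h2)
    have h4 : orderOf y ∣ (3 ^ (2 * m + 1) - 1) / 2 := by
      rw [← hcard]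
      have : orderOf (⟨y, hy⟩ : A) ∣ Nat.card A := orderOf_dvd_natCard _
      rwa [← Subgroup.orderOf_coe] at this
    have h5 : orderOf y ∣ Nat.gcd 2 ((3 ^ (2 * m + 1) - 1) / 2) := Nat.dvd_gcd h3 h4
    have h6 : Nat.gcd 2 ((3 ^ (2 * m + 1) - 1) / 2) = 1 :=
      Nat.coprime_two_left.2 (by rw [Nat.odd_iff]; omega)
    rw [h6, Nat.dvd_one, orderOf_eq_one_iff] at h5
    exact h5
  · intro X hX hXd
    obtain ⟨X', hX', hX'card, _⟩ := exists_subgroup_card_of_cyclic A hcyc hXd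
    have := Cfsg.Agent.Helper23.eq_of_card_eq_of_isCyclic (H1 K m) (isCyclic_H1 C hK) X X' hX
      (hX'.trans hA) hX'card.symm
    rw [this]
    exact hX'
  · apply hall_of_not_dvd A (2 * (3 ^ (2 * m + 1)) ^ 3 * ((3 ^ (2 * m + 1)) ^ 3 + 1))
    · rw [C.card_ree hK, hcard]
      obtain ⟨a, ha⟩ : ∃ a, 3 ^ (2 * m + 1) = 2 * a + 1 := ⟨(3 ^ (2 * m + 1) - 1) / 2, by omega⟩
      rw [ha]
      have : (2 * a + 1 - 1) / 2 = a := by omega
      rw [this]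
      have : 2 * a + 1 - 1 = 2 * a := by omega
      rw [this]
      ring
    · intro p hp hpd
      rw [hcard] at hpd
      exact hall_arith_H m p hp hpd

end Cfsg.Agent.Helper6.ReeLoc
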