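import Mathlib
import Cfsg.Agent.Helper6.ReeLoc.Torus
import Cfsg.Agent.Helper6.Ree.G2SylC

set_option autoImplicit false
set_option linter.unusedSectionVars false
set_option linter.unusedVariables false

/-!
Facts on `B¹ = U¹ H¹` in `²↥(twistedG2 K (3 ^ m))₂(q)`, in the form used by the counting arguments.
-/

namespace Cfsg.Agent.Helper6.ReeLoc

open Cfsg.Lie Cfsg.Agent.Helper6 Cfsg.Agent.Helper6.Ree Cfsg.Agent.Helper6.ReeAut

variable {K : Type*} [Field K] [Fintype K] {m : ℕ} (C : ReeCtx K m)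
  (hK : Fintype.card K = 3 ^ (2 * m + 1))

include C hK


theorem card_B1 : Nat.card ↥(B1 K m) = (3 ^ (2 * m + 1)) ^ 3 * (3 ^ (2 * m + 1) - 1) := by
  unfold B1
  rw [Nat.card_congr (Subgroup.subgroupOfEquivOfLe inf_le_right).toEquiv, C.card_borel_inf,
    C.card_torus hK, C.U_inf_twisted, C.card_U_inf_Fix, hK]

theorem B1_eq_sup : B1 K m = (ReeCtx.U1 (K := K) (m := m)) ⊔ H1 K m := by
  apply le_antisymm
  · intro g hg
    obtain ⟨u, hu, h, hh, rfl⟩ := ((r1 C).mem_B g).1 hg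
    exact Subgroup.mul_mem _ (Subgroup.mem_sup_left hu) (Subgroup.mem_sup_right hh)
  · exact sup_le (r1 C).U_le_B (r1 C).H_le_B

/-- the TI property, in the form `g y g⁻¹ ∈ U → g ∈ U ⊔ H` -/
theorem ti_U1 : ∀ g : ↥(twistedG2 K (3 ^ m)), ∀ y ∈ (ReeCtx.U1 (K := K) (m := m)), y ≠ 1 → g * y * g⁻¹ ∈ (ReeCtx.U1 (K := K) (m := m)) → g ∈ (ReeCtx.U1 (K := K) (m := m)) ⊔ H1 K m := by
  intro g y hy hy1 h
  rw [← B1_eq_sup C hK]
  have h1 : (g⁻¹)⁻¹ * y * g⁻¹ ∈ (r1 C).U := by rw [inv_inv]; exact h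
  have := (r1 C).normU g⁻¹ y hy hy1 h1
  have h2 := (r1 C).B.inv_mem this
  rw [inv_inv] at h2
  exact h2

theorem aG_eq_hT : C.aG hK = hT C hK (-1) := rfl

theorem aG_mem_H1 : C.aG hK ∈ H1 K m := hT_mem_H1 C hK (-1)

theorem orderOf_aG : orderOf (C.aG hK) = 2 := by
  have : Fact (Nat.Prime 2) := ⟨Nat.prime_two⟩
  rw [orderOf_eq_prime_iff]
  exact ⟨by rw [pow_two]; exact C.aG_sq hK, C.aG_ne_one hK⟩

/-- the involution of the torus -/
theorem H1_invol : ∀ h ∈ H1 K m, h * h = 1 → h = 1 ∨ h = C.aG hK := by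
  intro h hh h2
  obtain ⟨w, rfl⟩ := exists_hT C hK hh
  have h3 : hT C hK (w * w) = hT C hK 1 := by
    have e1 : hT C hK (w * w) = hT C hK w * hT C hK w := Subtype.ext (map_mul (hwHom K m) w w)
    have e2 : hT C hK 1 = 1 := Subtype.ext (map_one (hwHom K m))
    rw [e1, e2, h2]
  have h4 := hT_injective C hK h3
  rcases units_sq_eq_one (u := w) (by rw [sq]; exact h4) with rfl | rfl
  · left; exact Subtype.ext (map_one (hwHom K m))
  · right; rfl

/-- the action of the involution on `U¹` -/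
theorem aG_conj_xU (t u v : K) : C.aG hK * ReeAut.xU m t u v * (C.aG hK)⁻¹ = ReeAut.xU m (-t) u (-v) := by
  rw [aG_eq_hT, hT_conj_xU, c6_neg_one, c10_neg_one]
  simp

theorem three_eq_zero' : (3 : K) = 0 := by
  have := C.char3
  have := CharP.cast_eq_zero K 3
  exact_mod_cast this

theorem two_ne_zero' : (2 : K) ≠ 0 := by
  intro h
  have h3 := three_eq_zero' C hK
  have : (1 : K) = 0 := by linear_combination h3 - h
  exact one_ne_zero this

/-- the centraliser of the involution in `U¹` -/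
theorem commute_aG_xU_iff (t u v : K) : Commute (ReeAut.xU m t u v) (C.aG hK) ↔ t = 0 ∧ v = 0 := by
  have h2 := two_ne_zero' C hK
  constructor
  · intro hc
    have h1 : C.aG hK * ReeAut.xU m t u v * (C.aG hK)⁻¹ = ReeAut.xU m t u v := by
      rw [← hc.eq, mul_inv_cancel_right]
    rw [aG_conj_xU] at h1
    obtain ⟨e1, _, e3⟩ := xU_inj C h1
    constructor
    · have : (2 : K) * t = 0 := by linear_combination -e1
      rcases mul_eq_zero.1 this with h | h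
      · exact absurd h h2
      · exact h
    · have : (2 : K) * v = 0 := by linear_combination -e3
      rcases mul_eq_zero.1 this with h | h
      · exact absurd h h2
      · exact h
  · rintro ⟨rfl, rfl⟩
    have h1 := aG_conj_xU C hK 0 u 0
    simp only [neg_zero] at h1
    rw [Commute, SemiconjBy]
    nth_rewrite 1 [← h1]
    rw [inv_mul_cancel_right]

theorem card_cent_aG_U1 : Nat.card {u : (ReeCtx.U1 (K := K) (m := m)) // Commute (u : ↥(twistedG2 K (3 ^ m))) (C.aG hK)} = 3 ^ (2 * m + 1) := by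
  rw [← hK, ← Nat.card_eq_fintype_card]
  symm
  apply Nat.card_congr
  refine Equiv.ofBijective
    (fun u : K => ⟨⟨ReeAut.xU m 0 u 0, xU_mem_U1 _ _ _⟩, (commute_aG_xU_iff C hK 0 u 0).2 ⟨rfl, rfl⟩⟩)
    ⟨?_, ?_⟩
  · intro u u' h
    have h1 : ReeAut.xU m (0 : K) u 0 = ReeAut.xU m 0 u' 0 := congrArg (fun z => ((z.1 : (ReeCtx.U1 (K := K) (m := m))) : ↥(twistedG2 K (3 ^ m)))) h
    exact (xU_inj C h1).2.1
  · rintro ⟨⟨x, hx⟩, hc⟩
    obtain ⟨t, u, v, rfl⟩ := exists_xU C hx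
    obtain ⟨rfl, rfl⟩ := (commute_aG_xU_iff C hK t u v).1 hc
    exact ⟨u, rfl⟩

theorem cent_aG_U1_cube : ∀ u ∈ (ReeCtx.U1 (K := K) (m := m)), Commute u (C.aG hK) → u ^ 3 = 1 := by
  intro x hx hc
  obtain ⟨t, u, v, rfl⟩ := exists_xU C hx
  obtain ⟨rfl, rfl⟩ := (commute_aG_xU_iff C hK t u v).1 hc
  rw [xU_cube C]
  have : (0 : K) ^ (3 * 3 ^ m + 2) = 0 := zero_pow (by omega)
  rw [this, neg_zero]
  exact ReeAut.xU_zero

theorem U1_pow_nine : ∀ u ∈ (ReeCtx.U1 (K := K) (m := m)), u ^ 9 = 1 := by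
  intro x hx
  obtain ⟨t, u, v, rfl⟩ := exists_xU C hx
  have : (9 : ℕ) = 3 * 3 := by norm_num
  rw [this, pow_mul, xU_cube C, xU_cube C]
  have : (0 : K) ^ (3 * 3 ^ m + 2) = 0 := zero_pow (by omega)
  rw [this, neg_zero]
  exact ReeAut.xU_zero

theorem xU_cube_eq_one_iff (t u v : K) : ReeAut.xU m t u v ^ 3 = 1 ↔ t = 0 := by
  rw [xU_cube C, ← ReeAut.xU_zero (K := K) (m := m)]
  constructor
  · intro h
    obtain ⟨_, _, e⟩ := xU_inj C h
    have : t ^ (3 * 3 ^ m + 2) = 0 := by linear_combination -e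
    exact pow_eq_zero_iff (by omega) |>.1 this
  · rintro rfl
    have : (0 : K) ^ (3 * 3 ^ m + 2) = 0 := zero_pow (by omega)
    rw [this, neg_zero]

theorem card_U1_cube : Nat.card {u : (ReeCtx.U1 (K := K) (m := m)) // (u : ↥(twistedG2 K (3 ^ m))) ^ 3 = 1} = (3 ^ (2 * m + 1)) ^ 2 := by
  have e : (3 ^ (2 * m + 1)) ^ 2 = Nat.card (K × K) := by
    rw [Nat.card_prod, Nat.card_eq_fintype_card, hK, sq]
  rw [e]
  symm
  apply Nat.card_congr
  refine Equiv.ofBijective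
    (fun p : K × K => ⟨⟨ReeAut.xU m 0 p.1 p.2, xU_mem_U1 _ _ _⟩, (xU_cube_eq_one_iff C hK 0 p.1 p.2).2 rfl⟩)
    ⟨?_, ?_⟩
  · intro p p' h
    have h1 : ReeAut.xU m (0 : K) p.1 p.2 = ReeAut.xU m 0 p'.1 p'.2 := congrArg (fun z => ((z.1 : (ReeCtx.U1 (K := K) (m := m))) : ↥(twistedG2 K (3 ^ m)))) h
    obtain ⟨_, e1, e2⟩ := xU_inj C h1
    exact Prod.ext e1 e2
  · rintro ⟨⟨x, hx⟩, hc⟩
    obtain ⟨t, u, v, rfl⟩ := exists_xU C hx
    have ht := (xU_cube_eq_one_iff C hK t u v).1 hc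
    subst ht
    exact ⟨(u, v), rfl⟩

/-- a non-trivial element of a Sylow `3`-subgroup has its centraliser in a conjugate of `B¹` -/
theorem exists_conj_mem_B1 {x y : ↥(twistedG2 K (3 ^ m))} (hx : orderOf x = 3) (hc : Commute y x) :
    ∃ a : ↥(twistedG2 K (3 ^ m)), a⁻¹ * y * a ∈ B1 K m ∧ a⁻¹ * x * a ∈ (ReeCtx.U1 (K := K) (m := m)) := by
  have : Fact (Nat.Prime 3) := ⟨Nat.prime_three⟩
  have hfin : Finite ↥(twistedG2 K (3 ^ m)) := Subtype.finite
  have hx1 : x ≠ 1 := by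
    rintro rfl
    rw [orderOf_one] at hx
    norm_num at hx
  have hp : IsPGroup 3 ↥(Subgroup.zpowers x) := by
    apply IsPGroup.of_card (n := 1)
    rw [Nat.card_zpowers, hx, pow_one]
  obtain ⟨P, hP⟩ := hp.exists_le_sylow
  obtain ⟨a, ha⟩ := C.sylow_eq_conj hK P
  have hxU : a⁻¹ * x * a ∈ (ReeCtx.U1 (K := K) (m := m)) := (ha x).1 (hP (Subgroup.mem_zpowers x))
  refine ⟨a, ?_, hxU⟩
  apply (r1 C).normU (a⁻¹ * y * a) (a⁻¹ * x * a) hxU
  · intro h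
    apply hx1
    have : x = a * (a⁻¹ * x * a) * a⁻¹ := by group
    rw [this, h]; group
  · have e : (a⁻¹ * y * a)⁻¹ * (a⁻¹ * x * a) * (a⁻¹ * y * a) = a⁻¹ * (y⁻¹ * x * y) * a := by group
    have e2 : y⁻¹ * x * y = x := by
      rw [mul_assoc, ← hc.eq, inv_mul_cancel_left]
    rw [e, e2]
    exact hxU

/-- an element commuting with an element of order `3` has order dividing `q³(q-1)` -/
theorem pow_eq_one_of_commute_three {x y : ↥(twistedG2 K (3 ^ m))} (hx : orderOf x = 3) (hc : Commute y x) :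
    y ^ ((3 ^ (2 * m + 1)) ^ 3 * (3 ^ (2 * m + 1) - 1)) = 1 := by
  obtain ⟨a, ha, _⟩ := exists_conj_mem_B1 C hK hx hc
  have hfin : Finite ↥(twistedG2 K (3 ^ m)) := Subtype.finite
  have h1 : (⟨a⁻¹ * y * a, ha⟩ : ↥(B1 K m)) ^ Nat.card ↥(B1 K m) = 1 := pow_card_eq_one'
  rw [card_B1 C hK] at h1
  have h2 := congrArg Subtype.val h1
  simp only [Subgroup.coe_pow, Subgroup.coe_one] at h2
  have h3 : (a⁻¹ * y * a) ^ ((3 ^ (2 * m + 1)) ^ 3 * (3 ^ (2 * m + 1) - 1)) =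
      a⁻¹ * y ^ ((3 ^ (2 * m + 1)) ^ 3 * (3 ^ (2 * m + 1) - 1)) * a := by
    have := (MulAut.conj a⁻¹).toMonoidHom.map_pow y ((3 ^ (2 * m + 1)) ^ 3 * (3 ^ (2 * m + 1) - 1))
    simp only [MulEquiv.toMonoidHom_eq_coe, MonoidHom.coe_coe, MulAut.conj_apply, inv_inv] at this
    exact this.symm
  rw [h3] at h2
  have : y ^ ((3 ^ (2 * m + 1)) ^ 3 * (3 ^ (2 * m + 1) - 1)) =
      a * (a⁻¹ * y ^ ((3 ^ (2 * m + 1)) ^ 3 * (3 ^ (2 * m + 1) - 1)) * a) * a⁻¹ := by group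
  rw [this, h2]; group

end Cfsg.Agent.Helper6.ReeLoc
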