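import Mathlib

set_option autoImplicit false
set_option linter.unusedSectionVars false
set_option linter.unusedVariables false

/-!
The subgroup `X ∪ jX` for an involution `j` centralising `X`; kernels of order two.
-/

namespace Cfsg.Agent.Helper6.ReeLoc

open Subgroup

variable {G : Type*} [Group G]

theorem commute_of_mul_mem {j a : G} {X : Subgroup G} (hj : j * j = 1)
    (hc : ∀ x ∈ X, Commute j x) (ha : j * a ∈ X) : Commute j a := by
  have h1 := hc _ ha
  have e : a = j * (j * a) := by rw [← mul_assoc, hj, one_mul]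
  rw [e]
  exact (Commute.refl j).mul_right h1

/-- `X ∪ jX` -/
def dbl (j : G) (X : Subgroup G) (hj : j * j = 1) (hc : ∀ x ∈ X, Commute j x) : Subgroup G where
  carrier := {x | x ∈ X ∨ j * x ∈ X}
  one_mem' := Or.inl X.one_mem
  mul_mem' := by
    rintro a b (ha | ha) (hb | hb)
    · exact Or.inl (X.mul_mem ha hb)
    · right
      have : j * (a * b) = a * (j * b) := by
        rw [← mul_assoc, (hc a ha).eq, mul_assoc]
      rw [this]
      exact X.mul_mem ha hb
    · right
      rw [← mul_assoc]
      exact X.mul_mem ha hb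
    · left
      have h1 := commute_of_mul_mem hj hc ha
      have : a * b = (j * a) * (j * b) := by
        calc a * b = (j * j) * a * b := by rw [hj, one_mul]
          _ = j * (j * a) * b := by rw [mul_assoc j j a]
          _ = j * (a * j) * b := by rw [h1.eq]
          _ = (j * a) * (j * b) := by simp only [mul_assoc]
      rw [this]
      exact X.mul_mem ha hb
  inv_mem' := by
    rintro a (ha | ha)
    · exact Or.inl (X.inv_mem ha)
    · right
      have h1 := commute_of_mul_mem hj hc ha
      have hjinv : j⁻¹ = j := inv_eq_of_mul_eq_one_left hj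
      have : j * a⁻¹ = (j * a)⁻¹ := by
        rw [mul_inv_rev, hjinv, h1.inv_right.eq]
      rw [this]
      exact X.inv_mem ha

variable {j : G} {X : Subgroup G} {hj : j * j = 1} {hc : ∀ x ∈ X, Commute j x}

theorem mem_dbl {x : G} : x ∈ dbl j X hj hc ↔ x ∈ X ∨ j * x ∈ X := Iff.rfl

theorem le_dbl : X ≤ dbl j X hj hc := fun _ h => Or.inl h

theorem j_mem_dbl : j ∈ dbl j X hj hc := Or.inr (by rw [hj]; exact X.one_mem)

theorem dbl_commute_j : ∀ x ∈ dbl j X hj hc, Commute j x := by
  rintro x (h | h)
  · exact hc x h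
  · exact commute_of_mul_mem hj hc h

theorem dbl_comm (hX : ∀ a ∈ X, ∀ b ∈ X, Commute a b) :
    ∀ a ∈ dbl j X hj hc, ∀ b ∈ dbl j X hj hc, Commute a b := by
  have key : ∀ a ∈ dbl j X hj hc, ∀ b ∈ X, Commute a b := by
    rintro a (ha | ha) b hb
    · exact hX a ha b hb
    · have h1 := hX _ ha b hb
      have e : a = j * (j * a) := by rw [← mul_assoc, hj, one_mul]
      rw [e]
      exact (hc b hb).mul_left h1
  rintro a ha b (hb | hb)
  · exact key a ha b hb
  · have h1 := key a ha _ hb
    have e : b = j * (j * b) := by rw [← mul_assoc, hj, one_mul]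
    rw [e]
    exact ((dbl_commute_j a ha).symm).mul_right h1

theorem card_dbl [Finite G] (hjX : j ∉ X) : Nat.card (dbl j X hj hc) = 2 * Nat.card X := by
  have hidx : (X.subgroupOf (dbl j X hj hc)).index = 2 := by
    rw [Subgroup.index_eq_two_iff]
    refine ⟨⟨j, j_mem_dbl⟩, fun b => ?_⟩
    simp only [Subgroup.mem_subgroupOf, Subgroup.coe_mul]
    have hb := b.2
    have hcb : Commute j (b : G) := dbl_commute_j _ hb
    rcases hb with h | h
    · refine Or.inr ⟨h, fun h2 => hjX ?_⟩
      have : j = (b : G)⁻¹ * ((b : G) * j) := by group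
      rw [this]
      exact X.mul_mem (X.inv_mem h) h2
    · refine Or.inl ⟨by rw [← hcb.eq]; exact h, fun h2 => hjX ?_⟩
      have : j = (j * (b : G)) * (b : G)⁻¹ := by group
      rw [this]
      exact X.mul_mem h (X.inv_mem h2)
  rw [← Subgroup.card_mul_index (X.subgroupOf (dbl j X hj hc)), hidx,
    Nat.card_congr (Subgroup.subgroupOfEquivOfLe le_dbl).toEquiv, mul_comm]

/-- a homomorphism with kernel `{1, z}` halves the order of a subgroup containing `z` -/
theorem card_map_of_ker_two {S : Type*} [Group S] [Finite S] (f : S →* G) (X : Subgroup S) (z : S)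
    (hz : z ≠ 1) (hzX : z ∈ X) (hker : ∀ s : S, f s = 1 ↔ s = 1 ∨ s = z) :
    Nat.card X = 2 * Nat.card (X.map f) := by
  have h1 := Subgroup.card_mul_index (f.subgroupMap X).ker
  rw [Subgroup.index_ker, MonoidHom.range_eq_top.2 (f.subgroupMap_surjective X),
    Subgroup.card_top] at h1
  have hψ : ∀ x : X, f.subgroupMap X x = 1 ↔ f (x : S) = 1 := by
    intro x
    rw [Subtype.ext_iff]
    rfl
  have h2 : Nat.card (f.subgroupMap X).ker = 2 := by
    rw [Nat.card_eq_two_iff]
    refine ⟨⟨1, one_mem _⟩, ⟨⟨z, hzX⟩, ?_⟩, ?_, ?_⟩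
    · rw [MonoidHom.mem_ker, hψ]
      exact (hker z).2 (Or.inr rfl)
    · intro h
      apply hz
      have := congrArg (fun t : (f.subgroupMap X).ker => ((t : X) : S)) h
      exact this.symm
    · ext ⟨⟨s, hs⟩, hk⟩
      simp only [Set.mem_insert_iff, Set.mem_singleton_iff, Set.mem_univ, iff_true]
      rw [MonoidHom.mem_ker, hψ] at hk
      rcases (hker s).1 hk with rfl | rfl
      · left; rfl
      · right; rfl
  rw [← h1, h2]

end Cfsg.Agent.Helper6.ReeLoc
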