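import Mathlib
import Cfsg.Agent.Helper12.SL2NonsplitTorus
import Cfsg.Agent.Helper12.SL2TorusConj
import Cfsg.Agent.Helper12.SL2OrderFour
import Cfsg.Agent.Helper12.SL2TorusB

set_option autoImplicit false
set_option linter.unusedSectionVars false
set_option linter.unusedVariables false

/-!
Centralisers modulo the centre in `SL₂`, for elements of a torus.
-/

namespace Cfsg.Agent.Helper6.ReeLoc

open Cfsg.Agent.Helper12

variable {F : Type*} [Field F]

local notation "S2" => Matrix.SpecialLinearGroup (Fin 2) F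
local notation "M2" => Matrix (Fin 2) (Fin 2) F

theorem sl2_coe_ne_one {y : S2} (h : y ≠ 1) : (y : M2) ≠ 1 := by
  intro e
  apply h
  apply Subtype.ext
  rw [e, Matrix.SpecialLinearGroup.coe_one]

theorem sl2_coe_ne_neg_one {y : S2} (h : y ≠ -1) : (y : M2) ≠ -1 := by
  intro e
  apply h
  apply Subtype.ext
  rw [e, sl2_neg_one_coe]

theorem neg_eq_neg_one_mul (y : S2) : -y = (-1 : S2) * y := by
  rw [neg_one_mul]

/-- an element conjugating `y` to `± y` normalises the torus -/
theorem mod_center_norm {A : M2} {ε : F} (hT : IsTorusGen A ε) {y : S2} (hy : y ∈ torusA A)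
    (hy1 : y ≠ 1) (hy1' : y ≠ -1) {g : S2} (hg : g * y * g⁻¹ = y ∨ g * y * g⁻¹ = -y) :
    g ∈ normA A := by
  apply hT.mem_normA_of_conj_mem hy (sl2_coe_ne_one hy1) (sl2_coe_ne_neg_one hy1')
  rcases hg with h | h
  · rw [h]; exact hy
  · rw [h, neg_eq_neg_one_mul]
    exact (torusA A).mul_mem (IsTorusGen.neg_one_mem_torusA A) hy

/-- an element conjugating `y` to `± y`, where `y² ≠ ± 1`, lies in the torus -/
theorem mod_center_cent {A : M2} {ε : F} (hT : IsTorusGen A ε) {y : S2} (hy : y ∈ torusA A)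
    (hy2 : y * y ≠ 1) (hy2' : y * y ≠ -1) {g : S2} (hg : g * y * g⁻¹ = y ∨ g * y * g⁻¹ = -y) :
    g ∈ torusA A := by
  have hy1 : y ≠ 1 := by rintro rfl; exact hy2 (one_mul 1)
  have hy1' : y ≠ -1 := by
    rintro rfl
    apply hy2
    rw [neg_one_mul, neg_neg]
  have hn := mod_center_norm hT hy hy1 hy1' hg
  rcases hn with hc | hc
  · exact hc
  · exfalso
    have hinv := hT.conj_eq_inv hc hy
    rw [hinv] at hg
    rcases hg with h | h
    · apply hy2
      rw [inv_eq_iff_mul_eq_one] at h
      exact h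
    · apply hy2'
      have : y⁻¹ * y = -y * y := by rw [h]
      rw [inv_mul_cancel, neg_mul] at this
      rw [this, neg_neg]

/-- elements of the normaliser conjugate `y₄` (with `y₄² = -1`) to `± y₄` -/
theorem norm_conj_four {A : M2} {ε : F} (hT : IsTorusGen A ε) {y : S2} (hy : y ∈ torusA A)
    (hy2 : y * y = -1) {g : S2} (hg : g ∈ normA A) : g * y * g⁻¹ = y ∨ g * y * g⁻¹ = -y := by
  rcases hg with hc | hc
  · left
    have := hT.torus_comm hc hy
    rw [this, mul_inv_cancel_right]
  · right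
    rw [hT.conj_eq_inv hc hy, inv_eq_iff_mul_eq_one, mul_neg, hy2, neg_neg]

end Cfsg.Agent.Helper6.ReeLoc
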