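import Mathlib
import Cfsg.Agent.Helper6.ReeLoc.BorelFacts
import Cfsg.Agent.Helper6.ReeLoc.SL2Ns
import Cfsg.Agent.Helper6.ReeLoc.Dbl
import Cfsg.Agent.Helper12.SL2SylowTwo

set_option autoImplicit false
set_option linter.unusedSectionVars false
set_option linter.unusedVariables false

/-!
The image in `²G₂(q)` of the non-split torus of `SL₂(q)`, and the centraliser of a four-group.
-/

namespace Cfsg.Agent.Helper6.ReeLoc

open Cfsg.Lie Cfsg.Agent.Helper6 Cfsg.Agent.Helper6.Ree Cfsg.Agent.Helper6.ReeAut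
open Cfsg.Agent.Helper12

variable {K : Type*} [Field K] [Fintype K] {m : ℕ} (C : ReeCtx K m)
  (hK : Fintype.card K = 3 ^ (2 * m + 1)) (Φ : InvHom K m)

/-- the torus generator -/
abbrev A0 (K : Type*) [Field K] : Matrix (Fin 2) (Fin 2) K := nsGen (-1 : K)

/-- the element of order `4` of the torus -/
def y4 (K : Type*) [Field K] : Matrix.SpecialLinearGroup (Fin 2) K :=
  ⟨A0 K, by simp [A0, nsGen, Matrix.det_fin_two]⟩

theorem y4_coe : ((y4 K : Matrix.SpecialLinearGroup (Fin 2) K) : Matrix (Fin 2) (Fin 2) K) = A0 K := rfl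

theorem y4_mem : y4 K ∈ torusA (A0 K) := by
  rw [mem_torusA, y4_coe]

include C hK

theorem not_isSquare_neg_one : ¬ IsSquare (-1 : K) := by
  rw [FiniteField.isSquare_neg_one_iff, hK]
  have := q_mod_four m
  omega

theorem isTorusGen_A0 : IsTorusGen (A0 K) (-1 : K) :=
  nsGen_isTorusGen (two_ne_zero' C hK) (neg_ne_zero.2 one_ne_zero)

theorem y4_sq : y4 K * y4 K = -1 := by
  apply Subtype.ext
  rw [Matrix.SpecialLinearGroup.coe_mul, y4_coe, (isTorusGen_A0 C hK).sq, sl2_neg_one_coe]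
  simp

theorem card_T2 : Nat.card (torusA (A0 K)) = 3 ^ (2 * m + 1) + 1 := by
  rw [card_torusA_nsGen (two_ne_zero' C hK) (not_isSquare_neg_one C hK), hK]

theorem isCyclic_T2 : IsCyclic (torusA (A0 K)) := isCyclic_torusA_nsGen (not_isSquare_neg_one C hK)

theorem card_N2 : Nat.card (normA (A0 K)) = 2 * (3 ^ (2 * m + 1) + 1) := by
  rw [(isTorusGen_A0 C hK).card_normA (exists_anticomm_nsGen (two_ne_zero' C hK)
    (neg_ne_zero.2 one_ne_zero)), card_T2 C hK]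

include Φ

/-- the kernel of `φ` -/
theorem φG_ker (s : Matrix.SpecialLinearGroup (Fin 2) K) : Φ.φG s = 1 ↔ s = 1 ∨ s = -1 := by
  rw [Φ.φG_eq_one_iff C hK]
  constructor
  · exact sl2_center_eq s
  · rintro (rfl | rfl)
    · exact Subgroup.one_mem _
    · exact sl2_neg_one_mem_center

theorem neg_one_ne_one : (-1 : Matrix.SpecialLinearGroup (Fin 2) K) ≠ 1 :=
  (sl2_one_ne_neg_one (two_ne_zero' C hK)).symm

/-- the cyclic subgroup `A'` of order `(q+1)/2` -/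
noncomputable def Ap : Subgroup ↥(twistedG2 K (3 ^ m)) := (torusA (A0 K)).map Φ.φG

/-- the dihedral subgroup of order `q+1` -/
noncomputable def Dp : Subgroup ↥(twistedG2 K (3 ^ m)) := (normA (A0 K)).map Φ.φG

theorem card_Ap : 2 * Nat.card (Ap Φ) = 3 ^ (2 * m + 1) + 1 := by
  have hfin : Finite (Matrix.SpecialLinearGroup (Fin 2) K) := inferInstance
  rw [← card_T2 C hK]
  exact (card_map_of_ker_two Φ.φG (torusA (A0 K)) (-1) (neg_one_ne_one C hK Φ)
    (IsTorusGen.neg_one_mem_torusA _) (φG_ker C hK Φ)).symm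

theorem card_Dp : Nat.card (Dp Φ) = 3 ^ (2 * m + 1) + 1 := by
  have h := card_map_of_ker_two Φ.φG (normA (A0 K)) (-1) (neg_one_ne_one C hK Φ)
    (torusA_le_normA _ (IsTorusGen.neg_one_mem_torusA _)) (φG_ker C hK Φ)
  rw [card_N2 C hK] at h
  unfold Dp
  omega

theorem isCyclic_Ap : IsCyclic (Ap Φ) := by
  have := isCyclic_T2 C hK
  exact isCyclic_of_surjective (Φ.φG.subgroupMap (torusA (A0 K)))
    (Φ.φG.subgroupMap_surjective _)

theorem Ap_le_Dp : Ap Φ ≤ Dp Φ := Subgroup.map_mono (torusA_le_normA _)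

theorem Ap_le_range : Ap Φ ≤ Φ.φG.range := by
  rintro _ ⟨s, _, rfl⟩
  exact ⟨s, rfl⟩

theorem Dp_le_range : Dp Φ ≤ Φ.φG.range := by
  rintro _ ⟨s, _, rfl⟩
  exact ⟨s, rfl⟩

theorem aG_commute_range : ∀ x ∈ Φ.φG.range, Commute (C.aG hK) x := by
  rintro _ ⟨s, rfl⟩
  exact Φ.aG_commute C hK s

theorem aG_not_mem_range : C.aG hK ∉ Φ.φG.range := by
  rintro ⟨s, hs⟩
  apply Φ.aG_mul_ne_one C hK s
  rw [hs]
  exact C.aG_sq hK

/-- `φ g` commutes with `φ y` iff `g y g⁻¹ = ± y` -/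
theorem commute_φG_iff (g y : Matrix.SpecialLinearGroup (Fin 2) K) :
    Commute (Φ.φG g) (Φ.φG y) ↔ g * y * g⁻¹ = y ∨ g * y * g⁻¹ = -y := by
  have h1 : Commute (Φ.φG g) (Φ.φG y) ↔ Φ.φG (g * y * g⁻¹ * y⁻¹) = 1 := by
    rw [map_mul, map_mul, map_mul, map_inv, map_inv, Commute, SemiconjBy]
    constructor
    · intro h
      rw [h]; group
    · intro h
      have : Φ.φG g * Φ.φG y = (Φ.φG g * Φ.φG y * (Φ.φG g)⁻¹ * (Φ.φG y)⁻¹) * Φ.φG y * Φ.φG g := by
        group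
      rw [this, h, one_mul]
  rw [h1, φG_ker C hK Φ]
  constructor
  · rintro (h | h)
    · left
      rw [mul_inv_eq_one] at h
      exact h
    · right
      rw [mul_inv_eq_iff_eq_mul, neg_one_mul] at h
      exact h
  · rintro (h | h)
    · left; rw [h, mul_inv_cancel]
    · right; rw [h, neg_mul, mul_inv_cancel]

/-- the centraliser in `φ(SL₂)` of an element of `A'` whose square is not `1` -/
theorem cent_Ap {y x : ↥(twistedG2 K (3 ^ m))} (hy : y ∈ Ap Φ) (hy2 : y * y ≠ 1)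
    (hx : x ∈ Φ.φG.range) (hc : Commute x y) : x ∈ Ap Φ := by
  obtain ⟨t, ht, rfl⟩ := hy
  obtain ⟨g, rfl⟩ := hx
  refine ⟨g, ?_, rfl⟩
  have hc' := (commute_φG_iff C hK Φ g t).1 hc
  have h2 : Φ.φG (t * t) ≠ 1 := by rw [map_mul]; exact hy2
  rw [Ne, φG_ker C hK Φ, not_or] at h2
  exact mod_center_cent (isTorusGen_A0 C hK) ht h2.1 h2.2 hc'

/-- the involution `j'` -/
noncomputable def jp : ↥(twistedG2 K (3 ^ m)) := Φ.φG (y4 K)

theorem jp_mem_Ap : jp Φ ∈ Ap Φ := ⟨y4 K, y4_mem, rfl⟩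

theorem jp_sq : jp Φ * jp Φ = 1 := by
  unfold jp
  rw [← map_mul, y4_sq C hK, φG_ker C hK Φ]
  right; rfl

theorem y4_ne_one : y4 K ≠ 1 := by
  intro h
  have := y4_sq C hK
  rw [h, one_mul] at this
  exact (neg_one_ne_one C hK Φ) this.symm

theorem y4_ne_neg_one : y4 K ≠ -1 := by
  intro h
  have := y4_sq C hK
  rw [h, neg_one_mul, neg_neg] at this
  exact (neg_one_ne_one C hK Φ) this.symm

theorem jp_ne_one : jp Φ ≠ 1 := by
  unfold jp
  rw [Ne, φG_ker C hK Φ, not_or]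
  exact ⟨y4_ne_one C hK Φ, y4_ne_neg_one C hK Φ⟩

/-- the centraliser of `j'` in `φ(SL₂)` -/
theorem cent_jp {x : ↥(twistedG2 K (3 ^ m))} (hx : x ∈ Φ.φG.range) :
    Commute x (jp Φ) ↔ x ∈ Dp Φ := by
  constructor
  · intro hc
    obtain ⟨g, rfl⟩ := hx
    refine ⟨g, ?_, rfl⟩
    have hc' := (commute_φG_iff C hK Φ g (y4 K)).1 hc
    exact mod_center_norm (isTorusGen_A0 C hK) y4_mem (y4_ne_one C hK Φ) (y4_ne_neg_one C hK Φ) hc'
  · rintro ⟨g, hg, rfl⟩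
    exact (commute_φG_iff C hK Φ g (y4 K)).2
      (norm_conj_four (isTorusGen_A0 C hK) y4_mem (y4_sq C hK) hg)

/-- `D'` normalises `A'` -/
theorem Dp_conj_Ap {d a : ↥(twistedG2 K (3 ^ m))} (hd : d ∈ Dp Φ) (ha : a ∈ Ap Φ) :
    d * a * d⁻¹ ∈ Ap Φ := by
  obtain ⟨g, hg, rfl⟩ := hd
  obtain ⟨t, ht, rfl⟩ := ha
  refine ⟨g * t * g⁻¹, (isTorusGen_A0 C hK).conj_mem_torusA hg ht, ?_⟩
  rw [map_mul, map_mul, map_inv]

/-- the abelian subgroup `T = ⟨j⟩ × A'` of order `q + 1` -/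
noncomputable def Tq : Subgroup ↥(twistedG2 K (3 ^ m)) :=
  dbl (C.aG hK) (Ap Φ) (C.aG_sq hK)
    (fun x hx => aG_commute_range C hK Φ x (Ap_le_range C hK Φ hx))

/-- the centraliser `⟨j⟩ × D'` of the four-group, of order `2(q + 1)` -/
noncomputable def CVq : Subgroup ↥(twistedG2 K (3 ^ m)) :=
  dbl (C.aG hK) (Dp Φ) (C.aG_sq hK)
    (fun x hx => aG_commute_range C hK Φ x (Dp_le_range C hK Φ hx))

theorem card_Tq : Nat.card (Tq C hK Φ) = 3 ^ (2 * m + 1) + 1 := by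
  have hfin : Finite ↥(twistedG2 K (3 ^ m)) := Subtype.finite
  unfold Tq
  rw [card_dbl (fun h => aG_not_mem_range C hK Φ (Ap_le_range C hK Φ h)), card_Ap C hK Φ]

theorem card_CVq : Nat.card (CVq C hK Φ) = 2 * (3 ^ (2 * m + 1) + 1) := by
  have hfin : Finite ↥(twistedG2 K (3 ^ m)) := Subtype.finite
  unfold CVq
  rw [card_dbl (fun h => aG_not_mem_range C hK Φ (Dp_le_range C hK Φ h)), card_Dp C hK Φ]

theorem Tq_comm : ∀ a ∈ Tq C hK Φ, ∀ b ∈ Tq C hK Φ, Commute a b := by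
  apply dbl_comm
  intro a ha b hb
  have := isCyclic_Ap C hK Φ
  have h2 := (IsCyclic.commGroup (α := Ap Φ)).mul_comm ⟨a, ha⟩ ⟨b, hb⟩
  exact congrArg Subtype.val h2

theorem Ap_le_Tq : Ap Φ ≤ Tq C hK Φ := le_dbl

theorem aG_mem_Tq : C.aG hK ∈ Tq C hK Φ := j_mem_dbl

theorem Tq_le_CVq : Tq C hK Φ ≤ CVq C hK Φ := by
  rintro x (h | h)
  · exact Or.inl (Ap_le_Dp C hK Φ h)
  · exact Or.inr (Ap_le_Dp C hK Φ h)

/-- the centraliser of `j` and of an element of `A'` of square `≠ 1` is `T` -/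
theorem cent_aG_Ap {y x : ↥(twistedG2 K (3 ^ m))} (hy : y ∈ Ap Φ) (hy2 : y * y ≠ 1)
    (hj : Commute x (C.aG hK)) (hc : Commute x y) : x ∈ Tq C hK Φ := by
  obtain ⟨g, hg | hg⟩ := Φ.cent_aG C hK hj.symm
  · left
    exact cent_Ap C hK Φ hy hy2 ⟨g, hg.symm⟩ hc
  · right
    have hjy : Commute (C.aG hK) y := aG_commute_range C hK Φ y (Ap_le_range C hK Φ hy)
    have e : C.aG hK * x = Φ.φG g := by
      rw [hg, ← mul_assoc, C.aG_sq hK, one_mul]
    rw [e]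
    apply cent_Ap C hK Φ hy hy2 ⟨g, rfl⟩
    rw [← e]
    exact hjy.mul_left hc

/-- the centraliser of `j` and `j'` is `⟨j⟩ × D'` -/
theorem cent_aG_jp {x : ↥(twistedG2 K (3 ^ m))} :
    (Commute x (C.aG hK) ∧ Commute x (jp Φ)) ↔ x ∈ CVq C hK Φ := by
  have hjjp : Commute (C.aG hK) (jp Φ) := Φ.aG_commute C hK _
  constructor
  · rintro ⟨hj, hc⟩
    obtain ⟨g, hg | hg⟩ := Φ.cent_aG C hK hj.symm
    · left
      exact (cent_jp C hK Φ ⟨g, hg.symm⟩).1 hc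
    · right
      have e : C.aG hK * x = Φ.φG g := by
        rw [hg, ← mul_assoc, C.aG_sq hK, one_mul]
      rw [e]
      apply (cent_jp C hK Φ ⟨g, rfl⟩).1
      rw [← e]
      exact hjjp.mul_left hc
  · intro hx
    refine ⟨(dbl_commute_j x hx).symm, ?_⟩
    rcases hx with h | h
    · exact (cent_jp C hK Φ (Dp_le_range C hK Φ h)).2 h
    · have h1 := (cent_jp C hK Φ (Dp_le_range C hK Φ h)).2 h
      have e : x = C.aG hK * (C.aG hK * x) := by rw [← mul_assoc, C.aG_sq hK, one_mul]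
      rw [e]
      exact hjjp.mul_left h1

end Cfsg.Agent.Helper6.ReeLoc
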