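import Mathlib

set_option autoImplicit false
set_option linter.unusedSectionVars false
set_option linter.unusedVariables false

/-!
Block triangular matrices with respect to a predicate on the index set: the two diagonal blocks
are multiplicative, and the matrices with both diagonal blocks trivial commute.
-/

namespace Cfsg.Agent.Helper6.BlockTri

variable {n : Type*} [Fintype n] [DecidableEq n] {R : Type*} [CommRing R]
  (p : n → Prop) [DecidablePred p]

/-- the block with rows outside `p` and columns inside `p` vanishes -/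
def Tri (g : Matrix n n R) : Prop := ∀ i j, ¬ p i → p j → g i j = 0

theorem Tri.one : Tri p (1 : Matrix n n R) := by
  intro i j hi hj
  rw [Matrix.one_apply_ne]
  rintro rfl
  exact hi hj

theorem sum_split (f : n → R) :
    ∑ k, f k = ∑ k : {k // p k}, f k.1 + ∑ k : {k // ¬ p k}, f k.1 :=
  (Fintype.sum_subtype_add_sum_subtype p f).symm

theorem Tri.mul {g h : Matrix n n R} (hg : Tri p g) (hh : Tri p h) : Tri p (g * h) := by
  intro i j hi hj
  rw [Matrix.mul_apply]
  apply Finset.sum_eq_zero
  intro k _
  by_cases hk : p k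
  · rw [hg i k hi hk, zero_mul]
  · rw [hh k j hk hj, mul_zero]

/-- the diagonal block inside `p` -/
def blkI (g : Matrix n n R) : Matrix {i // p i} {i // p i} R :=
  g.submatrix Subtype.val Subtype.val

/-- the diagonal block outside `p` -/
def blkQ (g : Matrix n n R) : Matrix {i // ¬ p i} {i // ¬ p i} R :=
  g.submatrix Subtype.val Subtype.val

theorem blkI_one : blkI p (1 : Matrix n n R) = 1 := by
  ext i j
  simp [blkI, Matrix.one_apply, Subtype.ext_iff]

theorem blkQ_one : blkQ p (1 : Matrix n n R) = 1 := by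
  ext i j
  simp [blkQ, Matrix.one_apply, Subtype.ext_iff]

theorem blkI_mul (g : Matrix n n R) {h : Matrix n n R} (hh : Tri p h) :
    blkI p (g * h) = blkI p g * blkI p h := by
  ext i j
  simp only [blkI, Matrix.submatrix_apply, Matrix.mul_apply]
  rw [sum_split p]
  have : ∑ k : {k // ¬ p k}, g i.1 k.1 * h k.1 j.1 = 0 := by
    apply Finset.sum_eq_zero
    intro k _
    rw [hh k.1 j.1 k.2 j.2, mul_zero]
  rw [this, add_zero]

theorem blkQ_mul {g : Matrix n n R} (hg : Tri p g) (h : Matrix n n R) :
    blkQ p (g * h) = blkQ p g * blkQ p h := by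
  ext i j
  simp only [blkQ, Matrix.submatrix_apply, Matrix.mul_apply]
  rw [sum_split p]
  have : ∑ k : {k // p k}, g i.1 k.1 * h k.1 j.1 = 0 := by
    apply Finset.sum_eq_zero
    intro k _
    rw [hg i.1 k.1 i.2 k.2, zero_mul]
  rw [this, zero_add]

/-- the group of invertible block triangular matrices -/
def triSubgroup (R : Type*) [CommRing R] (p : n → Prop) [DecidablePred p] : Subgroup (GL n R) where
  carrier := {g | Tri p (g : Matrix n n R) ∧ Tri p ((g⁻¹ : GL n R) : Matrix n n R)}
  mul_mem' := by
    rintro a b ⟨ha, ha'⟩ ⟨hb, hb'⟩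
    refine ⟨?_, ?_⟩
    · rw [Units.val_mul]; exact ha.mul p hb
    · rw [mul_inv_rev, Units.val_mul]; exact hb'.mul p ha'
  one_mem' := by
    refine ⟨?_, ?_⟩
    · rw [Units.val_one]; exact Tri.one p
    · rw [inv_one, Units.val_one]; exact Tri.one p
  inv_mem' := by
    rintro a ⟨ha, ha'⟩
    exact ⟨ha', by rwa [inv_inv]⟩

theorem mem_triSubgroup {g : GL n R} :
    g ∈ triSubgroup R p ↔ Tri p (g : Matrix n n R) ∧ Tri p ((g⁻¹ : GL n R) : Matrix n n R) :=
  Iff.rfl

/-- the representation on the invariant subspace -/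
def repI : ↥(triSubgroup R p) →* GL {i // p i} R where
  toFun g := ⟨blkI p (g.1 : Matrix n n R), blkI p ((g.1⁻¹ : GL n R) : Matrix n n R),
    by rw [← blkI_mul p _ g.2.2, ← Units.val_mul, mul_inv_cancel, Units.val_one, blkI_one],
    by rw [← blkI_mul p _ g.2.1, ← Units.val_mul, inv_mul_cancel, Units.val_one, blkI_one]⟩
  map_one' := Units.ext (by
    show blkI p (((1 : ↥(triSubgroup R p)) : GL n R) : Matrix n n R) = 1
    rw [Subgroup.coe_one, Units.val_one, blkI_one])
  map_mul' a b := Units.ext (by
    show blkI p (((a * b : ↥(triSubgroup R p)) : GL n R) : Matrix n n R) =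
      blkI p (a.1 : Matrix n n R) * blkI p (b.1 : Matrix n n R)
    rw [Subgroup.coe_mul, Units.val_mul, blkI_mul p _ b.2.1])

/-- the representation on the quotient -/
def repQ : ↥(triSubgroup R p) →* GL {i // ¬ p i} R where
  toFun g := ⟨blkQ p (g.1 : Matrix n n R), blkQ p ((g.1⁻¹ : GL n R) : Matrix n n R),
    by rw [← blkQ_mul p g.2.1, ← Units.val_mul, mul_inv_cancel, Units.val_one, blkQ_one],
    by rw [← blkQ_mul p g.2.2, ← Units.val_mul, inv_mul_cancel, Units.val_one, blkQ_one]⟩
  map_one' := Units.ext (by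
    show blkQ p (((1 : ↥(triSubgroup R p)) : GL n R) : Matrix n n R) = 1
    rw [Subgroup.coe_one, Units.val_one, blkQ_one])
  map_mul' a b := Units.ext (by
    show blkQ p (((a * b : ↥(triSubgroup R p)) : GL n R) : Matrix n n R) =
      blkQ p (a.1 : Matrix n n R) * blkQ p (b.1 : Matrix n n R)
    rw [Subgroup.coe_mul, Units.val_mul, blkQ_mul p a.2.1])

theorem repI_val (g : ↥(triSubgroup R p)) (i j : {i // p i}) :
    ((repI p g : GL {i // p i} R) : Matrix _ _ R) i j = (g.1 : Matrix n n R) i.1 j.1 := rfl

theorem repQ_val (g : ↥(triSubgroup R p)) (i j : {i // ¬ p i}) :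
    ((repQ p g : GL {i // ¬ p i} R) : Matrix _ _ R) i j = (g.1 : Matrix n n R) i.1 j.1 := rfl

/-- entries of an element acting trivially on both blocks -/
theorem entry_of_ker {g : ↥(triSubgroup R p)} (hI : repI p g = 1) (hQ : repQ p g = 1) (i j : n)
    (h : (p i ↔ p j)) : (g.1 : Matrix n n R) i j = if i = j then 1 else 0 := by
  by_cases hi : p i
  · have hj := h.1 hi
    have := congrArg (fun x : GL {i // p i} R =>
      (x : Matrix {i // p i} {i // p i} R) ⟨i, hi⟩ ⟨j, hj⟩) hI
    simp only [repI_val, Units.val_one, Matrix.one_apply, Subtype.mk.injEq] at this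
    exact this
  · have hj : ¬ p j := fun hj => hi (h.2 hj)
    have := congrArg (fun x : GL {i // ¬ p i} R =>
      (x : Matrix {i // ¬ p i} {i // ¬ p i} R) ⟨i, hi⟩ ⟨j, hj⟩) hQ
    simp only [repQ_val, Units.val_one, Matrix.one_apply, Subtype.mk.injEq] at this
    exact this

/-- two elements acting trivially on both blocks commute -/
theorem commute_of_ker {g h : ↥(triSubgroup R p)} (hgI : repI p g = 1) (hgQ : repQ p g = 1)
    (hhI : repI p h = 1) (hhQ : repQ p h = 1) : g * h = h * g := by
  have key : ∀ (a b : ↥(triSubgroup R p)), repI p a = 1 → repQ p a = 1 → repI p b = 1 →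
      repQ p b = 1 → ∀ i j, ((a.1 : Matrix n n R) * (b.1 : Matrix n n R)) i j =
        if p i ∧ ¬ p j then (a.1 : Matrix n n R) i j + (b.1 : Matrix n n R) i j
        else if i = j then 1 else 0 := by
    intro a b haI haQ hbI hbQ i j
    rw [Matrix.mul_apply, sum_split p]
    by_cases hi : p i
    · by_cases hj : p j
      · rw [if_neg (by tauto)]
        have h2 : ∑ k : {k // ¬ p k}, (a.1 : Matrix n n R) i k.1 * (b.1 : Matrix n n R) k.1 j = 0 := by
          apply Finset.sum_eq_zero
          intro k _
          rw [b.2.1 k.1 j k.2 hj, mul_zero]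
        rw [h2, add_zero]
        have h1 : ∀ k : {k // p k}, (a.1 : Matrix n n R) i k.1 * (b.1 : Matrix n n R) k.1 j =
            if k = (⟨i, hi⟩ : {k // p k}) then (if i = j then 1 else 0) else 0 := by
          intro k
          rw [entry_of_ker p haI haQ i k.1 (by simp [hi, k.2]),
            entry_of_ker p hbI hbQ k.1 j (by simp [hj, k.2])]
          by_cases hk : k = ⟨i, hi⟩
          · subst hk; simp
          · have : i ≠ k.1 := fun e => hk (Subtype.ext e.symm)
            rw [if_neg this, if_neg hk, zero_mul]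
        rw [Finset.sum_congr rfl (fun k _ => h1 k), Finset.sum_ite_eq' Finset.univ (⟨i, hi⟩ : {k // p k})]
        simp
      · rw [if_pos ⟨hi, hj⟩]
        have h1 : ∀ k : {k // p k}, (a.1 : Matrix n n R) i k.1 * (b.1 : Matrix n n R) k.1 j =
            if k = (⟨i, hi⟩ : {k // p k}) then (b.1 : Matrix n n R) i j else 0 := by
          intro k
          rw [entry_of_ker p haI haQ i k.1 (by simp [hi, k.2])]
          by_cases hk : k = ⟨i, hi⟩
          · subst hk; simp
          · have : i ≠ k.1 := fun e => hk (Subtype.ext e.symm)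
            rw [if_neg this, if_neg hk, zero_mul]
        have h2 : ∀ k : {k // ¬ p k}, (a.1 : Matrix n n R) i k.1 * (b.1 : Matrix n n R) k.1 j =
            if k = (⟨j, hj⟩ : {k // ¬ p k}) then (a.1 : Matrix n n R) i j else 0 := by
          intro k
          rw [entry_of_ker p hbI hbQ k.1 j (by simp [hj, k.2])]
          by_cases hk : k = ⟨j, hj⟩
          · subst hk; simp
          · have : k.1 ≠ j := fun e => hk (Subtype.ext e)
            rw [if_neg this, if_neg hk, mul_zero]
        rw [Finset.sum_congr rfl (fun k _ => h1 k), Finset.sum_congr rfl (fun k _ => h2 k),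
          Finset.sum_ite_eq' Finset.univ (⟨i, hi⟩ : {k // p k}),
          Finset.sum_ite_eq' Finset.univ (⟨j, hj⟩ : {k // ¬ p k})]
        simp [add_comm]
    · rw [if_neg (by tauto)]
      have h1 : ∑ k : {k // p k}, (a.1 : Matrix n n R) i k.1 * (b.1 : Matrix n n R) k.1 j = 0 := by
        apply Finset.sum_eq_zero
        intro k _
        rw [a.2.1 i k.1 hi k.2, zero_mul]
      rw [h1, zero_add]
      by_cases hj : p j
      · have h2 : ∑ k : {k // ¬ p k}, (a.1 : Matrix n n R) i k.1 * (b.1 : Matrix n n R) k.1 j = 0 := by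
          apply Finset.sum_eq_zero
          intro k _
          rw [b.2.1 k.1 j k.2 hj, mul_zero]
        rw [h2]
        have : i ≠ j := by rintro rfl; exact hi hj
        rw [if_neg this]
      · have h2 : ∀ k : {k // ¬ p k}, (a.1 : Matrix n n R) i k.1 * (b.1 : Matrix n n R) k.1 j =
            if k = (⟨i, hi⟩ : {k // ¬ p k}) then (if i = j then 1 else 0) else 0 := by
          intro k
          rw [entry_of_ker p haI haQ i k.1 (by simp [hi, k.2]),
            entry_of_ker p hbI hbQ k.1 j (by simp [hj, k.2])]
          by_cases hk : k = ⟨i, hi⟩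
          · subst hk; simp
          · have : i ≠ k.1 := fun e => hk (Subtype.ext e.symm)
            rw [if_neg this, if_neg hk, zero_mul]
        rw [Finset.sum_congr rfl (fun k _ => h2 k),
          Finset.sum_ite_eq' Finset.univ (⟨i, hi⟩ : {k // ¬ p k})]
        simp
  apply Subtype.ext
  apply Units.ext
  ext i j
  rw [Subgroup.coe_mul, Subgroup.coe_mul, Units.val_mul, Units.val_mul,
    key g h hgI hgQ hhI hhQ i j, key h g hhI hhQ hgI hgQ i j, add_comm]

end Cfsg.Agent.Helper6.BlockTri
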