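import Mathlib
import Cfsg.Agent.Helper6.ReeLoc.BlockTri
import Cfsg.Agent.Helper6.Chev.UProd

set_option autoImplicit false
set_option linter.unusedSectionVars false
set_option linter.unusedVariables false

/-!
A coordinate subspace of the Chevalley Lie algebra which is an ideal modulo `p`: a check on the
tables, and the resulting block triangular shape of the root elements in characteristic `p`.
-/

namespace Cfsg.Agent.Helper6.ReeLoc

open Cfsg.Lie Cfsg.Agent.Helper6 Cfsg.Agent.Helper6.BlockTri

variable (D : ChevalleyDatum) (il ir : ℕ → Bool)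

/-- membership of a coordinate index in the coordinate subspace -/
def inI : D.Idx → Prop
  | Sum.inl i => il i.val = true
  | Sum.inr r => ir r.val = true

instance : DecidablePred (inI D il ir) := fun i => by
  cases i <;> unfold inI <;> infer_instance

/-- the chain part of the check, for one root -/
def ChainChk (p r : ℕ) : Prop :=
  ∀ s < D.nroots, ∀ u < D.nroots, ir s = true → ir u = false →
    ∀ km ∈ D.chainCoeff r s u, (p : ℤ) ∣ km.2

instance (p r : ℕ) : Decidable (ChainChk D ir p r) := by
  unfold ChainChk; infer_instance

/-- the check on the tables -/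
def IdealChk (p : ℕ) : Prop :=
  (∀ r < D.nroots, ∀ i < D.rank, il i = true → ir r = false →
    (p : ℤ) ∣ (D.cartanSR.getD i #[]).getD r 0) ∧
  (∀ r < D.nroots, ir (D.negIdx.getD r 0) = true → ir r = true ∧
    ∀ i < D.rank, il i = false → (p : ℤ) ∣ (D.coroot.getD r #[]).getD i 0) ∧
  (∀ r < D.nroots, ChainChk D ir p r)

instance (p : ℕ) : Decidable (IdealChk D il ir p) := by
  unfold IdealChk; infer_instance

variable {D il ir} {F : Type*} [Field F]

theorem cast_eq_zero {p : ℕ} [CharP F p] {c : ℤ} (h : (p : ℤ) ∣ c) : ((c : ℤ) : F) = 0 :=
  (CharP.intCast_eq_zero_iff F p c).2 h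

theorem tri_xMat {p : ℕ} [CharP F p] (h : IdealChk D il ir p) (r : Fin D.nroots) (t : F) :
    Tri (inI D il ir) (D.xMat F r t) := by
  obtain ⟨h1, h2, h3⟩ := h
  intro row col hrow hcol
  unfold ChevalleyDatum.xMat
  rw [Matrix.of_apply]
  cases col with
  | inl i =>
    cases row with
    | inl i' =>
      have : i' ≠ i := by
        rintro rfl
        exact hrow hcol
      simp only [this, if_false]
    | inr u =>
      simp only
      split_ifs with hu
      · subst hu
        have hu' : ir u.val = false := by
          simpa [inI] using hrow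
        rw [cast_eq_zero (p := p) (h1 u.val u.2 i.val i.2 hcol hu'), neg_zero, zero_mul]
      · rfl
  | inr s =>
    have hs : ir s.val = true := hcol
    simp only
    split_ifs with hsr hsn
    · subst hsr
      cases row with
      | inl i' => rfl
      | inr u =>
        simp only
        have : u ≠ s := by
          rintro rfl
          exact hrow hcol
        rw [if_neg this]
    · obtain ⟨hr, hc⟩ := h2 r.val r.2 (by rw [← hsn]; exact hs)
      cases row with
      | inl i' =>
        simp only
        have hi' : il i'.val = false := by
          simpa [inI] using hrow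
        rw [cast_eq_zero (p := p) (hc i'.val i'.2 hi'), zero_mul]
      | inr u =>
        simp only
        have hus : u ≠ s := by
          rintro rfl
          exact hrow hcol
        have hur : u ≠ r := by
          rintro rfl
          exact hrow hr
        rw [if_neg hus, if_neg hur]
    · cases row with
      | inl i' => rfl
      | inr u =>
        simp only
        have hus : u ≠ s := by
          rintro rfl
          exact hrow hcol
        have hu' : ir u.val = false := by
          simpa [inI] using hrow
        rw [if_neg hus, zero_add]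
        apply List.sum_eq_zero
        intro x hx
        rw [List.mem_map] at hx
        obtain ⟨km, hkm, rfl⟩ := hx
        rw [cast_eq_zero (p := p) (h3 r.val r.2 s.val s.2 u.val u.2 hs hu' km hkm), zero_mul]

theorem tri_x {p : ℕ} [CharP F p] (h : IdealChk D il ir p) (r : ℕ) (t : F) :
    Tri (inI D il ir) (D.x F r t) := by
  unfold ChevalleyDatum.x
  split_ifs with hr
  · exact tri_xMat h ⟨r, hr⟩ t
  · exact Tri.one _

theorem xU_mem_tri {p : ℕ} [CharP F p] (h : IdealChk D il ir p) (hB : BasicOK D) (r : ℕ) (t : F) :
    xU hB r t ∈ triSubgroup F (inI D il ir) := by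
  refine ⟨?_, ?_⟩
  · rw [xU_val]; exact tri_x h r t
  · rw [xU_inv, xU_val]; exact tri_x h r (-t)

theorem wordU_mem_tri {p : ℕ} [CharP F p] (h : IdealChk D il ir p) (hB : BasicOK D)
    (w : List (ℕ × F)) : wordU hB w ∈ triSubgroup F (inI D il ir) := by
  unfold wordU
  apply Subgroup.list_prod_mem
  intro x hx
  rw [List.mem_map] at hx
  obtain ⟨q, _, rfl⟩ := hx
  exact xU_mem_tri h hB q.1 q.2

theorem genSubgroup_le_tri {p : ℕ} [CharP F p] (h : IdealChk D il ir p) (hB : BasicOK D)
    (S : Set (List (ℕ × F))) : D.genSubgroup F S ≤ triSubgroup F (inI D il ir) := by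
  unfold ChevalleyDatum.genSubgroup
  rw [Subgroup.closure_le]
  rintro g ⟨w, _, hg⟩
  have : g = wordU hB w := Units.ext (by rw [hg, wordU_val])
  rw [this]
  exact wordU_mem_tri h hB w

end Cfsg.Agent.Helper6.ReeLoc
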