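import Mathlib
import Cfsg.Agent.Helper6.ReeLoc.Ideal
import Cfsg.Agent.Helper6.Ree.G2Simple
import Cfsg.Agent.Helper6.Ree.G2Ctx

set_option autoImplicit false
set_option linter.unusedSectionVars false
set_option linter.unusedVariables false

/-!
In characteristic `3` the short root vectors and `h_a` span an ideal of dimension `7` of the Lie
algebra of type `G₂`; the simple group `²G₂(q)` acts faithfully on it or on the quotient, hence
embeds into `GL₇(q)`.
-/

namespace Cfsg.Agent.Helper6.ReeLoc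

open Cfsg.Lie Cfsg.Agent.Helper6 Cfsg.Agent.Helper6.BlockTri Cfsg.Agent.Helper6.Ree

/-- the Cartan part of the ideal: `h_a` -/
def ilG2 (i : ℕ) : Bool := i == 0

/-- the root part of the ideal: the short roots -/
def irG2 (r : ℕ) : Bool := r ∈ [2, 3, 4, 7, 8, 9]

theorem idealChk_G2 : IdealChk chevG2 ilG2 irG2 3 := by decide +kernel

/-- the index set of the ideal -/
abbrev I7 : Type := {i : chevG2.Idx // inI chevG2 ilG2 irG2 i}

/-- the index set of the quotient -/
abbrev Q7 : Type := {i : chevG2.Idx // ¬ inI chevG2 ilG2 irG2 i}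

theorem card_I7 : Fintype.card I7 = 7 := by decide +kernel

theorem card_Q7 : Fintype.card Q7 = 7 := by decide +kernel

variable {K : Type*} [Field K]

/-- transport of `GL` along a bijection of index sets -/
noncomputable def glCongr {ι κ : Type*} [Fintype ι] [DecidableEq ι] [Fintype κ] [DecidableEq κ]
    (e : ι ≃ κ) : GL ι K ≃* GL κ K :=
  Units.mapEquiv (Matrix.reindexAlgEquiv K K e).toMulEquiv

section char3

variable [CharP K 3]

theorem twistedG2_le_tri (e : ℕ) :
    twistedG2 K e ≤ triSubgroup K (inI chevG2 ilG2 irG2) :=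
  genSubgroup_le_tri idealChk_G2 hB2 _

end char3

variable [Fintype K] {m : ℕ}

/-- the small Ree group embeds into `GL₇(q)` -/
theorem exists_rep7 (hK : Fintype.card K = 3 ^ (2 * m + 1)) (hm : 1 ≤ m) :
    ∃ ρ : ↥(twistedG2 K (3 ^ m)) →* GL (Fin 7) K, Function.Injective ρ := by
  obtain ⟨C⟩ := exists_reeCtx (K := K) (m := m) hK
  haveI := C.char3
  obtain ⟨hs, hnc⟩ := C.simple hK hm
  have hle := twistedG2_le_tri (K := K) (3 ^ m)
  let ρI : ↥(twistedG2 K (3 ^ m)) →* GL I7 K :=
    (repI (inI chevG2 ilG2 irG2)).comp (Subgroup.inclusion hle)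
  let ρQ : ↥(twistedG2 K (3 ^ m)) →* GL Q7 K :=
    (repQ (inI chevG2 ilG2 irG2)).comp (Subgroup.inclusion hle)
  rcases ρI.normal_ker.eq_bot_or_eq_top with h1 | h1
  · refine ⟨(glCongr (K := K) (Fintype.equivFinOfCardEq card_I7)).toMonoidHom.comp ρI, ?_⟩
    exact (glCongr _).injective.comp ((MonoidHom.ker_eq_bot_iff ρI).1 h1)
  rcases ρQ.normal_ker.eq_bot_or_eq_top with h2 | h2
  · refine ⟨(glCongr (K := K) (Fintype.equivFinOfCardEq card_Q7)).toMonoidHom.comp ρQ, ?_⟩
    exact (glCongr _).injective.comp ((MonoidHom.ker_eq_bot_iff ρQ).1 h2)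
  exfalso
  apply hnc
  refine ⟨⟨fun a b => ?_⟩⟩
  have haI : repI (inI chevG2 ilG2 irG2) (Subgroup.inclusion hle a) = 1 :=
    MonoidHom.mem_ker.1 (show a ∈ ρI.ker by rw [h1]; trivial)
  have haQ : repQ (inI chevG2 ilG2 irG2) (Subgroup.inclusion hle a) = 1 :=
    MonoidHom.mem_ker.1 (show a ∈ ρQ.ker by rw [h2]; trivial)
  have hbI : repI (inI chevG2 ilG2 irG2) (Subgroup.inclusion hle b) = 1 :=
    MonoidHom.mem_ker.1 (show b ∈ ρI.ker by rw [h1]; trivial)
  have hbQ : repQ (inI chevG2 ilG2 irG2) (Subgroup.inclusion hle b) = 1 :=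
    MonoidHom.mem_ker.1 (show b ∈ ρQ.ker by rw [h2]; trivial)
  have := commute_of_ker _ haI haQ hbI hbQ
  apply Subgroup.inclusion_injective hle
  rw [map_mul, map_mul]
  exact this

end Cfsg.Agent.Helper6.ReeLoc
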