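import Mathlib
import Cfsg.Agent.Helper6.ReeLoc.Nonsplit
import Cfsg.Agent.Helper6.ReeLoc.HFamily
import Cfsg.Agent.Helper6.ReeLoc.Rep7
import Cfsg.Agent.Helper11.ReeP45
import Cfsg.Agent.Helper16.ReeP8
import Cfsg.Agent.Helper4.ReeP1
import Cfsg.Agent.Helper23.ReeP3
import Cfsg.Agent.Helper2.SL2Sylow

set_option autoImplicit false
set_option linter.unusedSectionVars false
set_option linter.unusedVariables false

/-!
The Ree-specific inputs of the local analysis of `²G₂(q)`, part 1.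
-/

namespace Cfsg.Agent.Helper6.ReeLoc

open Cfsg.Lie Cfsg.Agent.Helper6 Cfsg.Agent.Helper6.Ree Cfsg.Agent.Helper6.ReeAut

/-- the order of `q` modulo a prime divisor of `q² - q + 1` is `6` -/
theorem pi_arith (q p : ℕ) (hq : 0 < q) (h3 : 3 ∣ q) (hp : p.Prime) (hpd : p ∣ q ^ 2 - q + 1) :
    p ∣ q ^ 6 - 1 ∧ ∀ e : ℕ, 0 < e → e < 6 → ¬ p ∣ q ^ e - 1 := by
  have : Fact p.Prime := ⟨hp⟩
  have hqq : q ≤ q ^ 2 := by nlinarith
  have hM : ((q : ℕ) : ZMod p) ^ 2 - q + 1 = 0 := by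
    have := (ZMod.natCast_eq_zero_iff _ p).2 hpd
    push_cast [Nat.cast_sub hqq] at this
    exact this
  have hp1 : (1 : ZMod p) ≠ 0 := one_ne_zero
  -- `p ≠ 2`
  have hp2 : (2 : ZMod p) ≠ 0 := by
    intro h2
    have hev : Even (q ^ 2 - q) := by
      have : q ^ 2 - q = q * (q - 1) := by
        rw [Nat.mul_sub, mul_one, sq]
      rw [this]
      exact Nat.even_mul_pred_self q
    obtain ⟨c, hc⟩ := hev
    have h4 : p ∣ 2 := by
      have := (ZMod.natCast_eq_zero_iff 2 p).1 (by exact_mod_cast h2)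
      exact this
    have h5 : p ∣ q ^ 2 - q := by
      rw [hc, ← two_mul]
      exact Dvd.dvd.mul_right h4 c
    have h6 : p ∣ 1 := (Nat.dvd_add_right h5).1 hpd
    exact hp.one_lt.ne' (Nat.dvd_one.1 h6)
  -- `p ≠ 3`
  have hp3 : (3 : ZMod p) ≠ 0 := by
    intro h3'
    have h4 : p ∣ 3 := (ZMod.natCast_eq_zero_iff 3 p).1 (by exact_mod_cast h3')
    have h5 : p ∣ q := h4.trans h3
    have h6 : ((q : ℕ) : ZMod p) = 0 := (ZMod.natCast_eq_zero_iff q p).2 h5
    rw [h6] at hM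
    apply hp1
    linear_combination hM
  set x : ZMod p := ((q : ℕ) : ZMod p) with hx
  have hcube : x ^ 3 = -1 := by linear_combination (x + 1) * hM
  have key : ∀ e : ℕ, 0 < e → (p ∣ q ^ e - 1 ↔ x ^ e = 1) := by
    intro e he
    have h1 : 1 ≤ q ^ e := Nat.one_le_pow _ _ hq
    rw [← ZMod.natCast_eq_zero_iff, Nat.cast_sub h1, Nat.cast_pow, Nat.cast_one, sub_eq_zero]
  refine ⟨(key 6 (by norm_num)).2 ?_, ?_⟩
  · have : x ^ 6 = (x ^ 3) ^ 2 := by ring
    rw [this, hcube]; ring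
  · intro e he0 he6
    rw [key e he0]
    intro he
    interval_cases e
    · -- `x = 1`
      apply hp1
      have h1 : x = 1 := by simpa using he
      rw [h1] at hM
      linear_combination hM
    · -- `x² = 1`
      apply hp3
      have h1 : x = 2 := by linear_combination he - hM
      rw [h1] at he
      linear_combination he
    · apply hp2
      linear_combination hcube - he
    · -- `x⁴ = 1`
      apply hp3
      have h1 : x = -1 := by
        have : x ^ 4 = x ^ 3 * x := by ring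
        rw [this, hcube] at he
        linear_combination -he
      rw [h1] at hM
      linear_combination hM
    · -- `x⁵ = 1`
      apply hp1
      have h1 : x = 0 := by
        have : x ^ 5 = x ^ 3 * x ^ 2 := by ring
        rw [this, hcube] at he
        linear_combination -he - hM
      rw [h1] at hM
      linear_combination hM

variable {K : Type*} [Field K] [Fintype K] {m : ℕ} (C : ReeCtx K m)
  (hK : Fintype.card K = 3 ^ (2 * m + 1)) (Φ : InvHom K m)

/-- the centraliser of an element of prime order dividing `q² - q + 1` is abelian -/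
theorem pi_comm_ree (hK : Fintype.card K = 3 ^ (2 * m + 1)) (hm : 1 ≤ m) (p : ℕ) (hp : p.Prime)
    (hpd : p ∣ (3 ^ (2 * m + 1)) ^ 2 - 3 ^ (2 * m + 1) + 1) (x : ↥(twistedG2 K (3 ^ m)))
    (hx : orderOf x = p) (a b : ↥(twistedG2 K (3 ^ m))) (ha : Commute a x) (hb : Commute b x) :
    Commute a b := by
  obtain ⟨ρ, hρ⟩ := exists_rep7 (K := K) hK hm
  obtain ⟨h6, hlt⟩ := pi_arith (3 ^ (2 * m + 1)) p (by positivity)
    (Dvd.intro_left (3 ^ (2 * m)) (by ring)) hp hpd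
  rw [← hK] at h6 hlt
  have hM : ((ρ x : GL (Fin 7) K) : Matrix (Fin 7) (Fin 7) K) ^ p = 1 := by
    rw [← Units.val_pow_eq_pow_val, ← map_pow, ← hx, pow_orderOf_eq_one, map_one, Units.val_one]
  have hM1 : ((ρ x : GL (Fin 7) K) : Matrix (Fin 7) (Fin 7) K) ≠ 1 := by
    intro h
    have h1 : ρ x = 1 := Units.ext h
    have h2 : x = 1 := hρ (by rw [h1, map_one])
    rw [h2, orderOf_one] at hx
    exact hp.one_lt.ne hx
  have hc : ∀ c : ↥(twistedG2 K (3 ^ m)), Commute c x →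
      Commute ((ρ x : GL (Fin 7) K) : Matrix (Fin 7) (Fin 7) K) ((ρ c : GL (Fin 7) K) : Matrix (Fin 7) (Fin 7) K) := by
    intro c hc
    rw [Commute, SemiconjBy, ← Units.val_mul, ← Units.val_mul, ← map_mul, ← map_mul, hc.eq]
  have key := Cfsg.Agent.Helper11.ReeP45.P4_commute_of_commute hp h6 hlt _ _ _ hM hM1 (hc a ha) (hc b hb)
  apply hρ
  rw [map_mul, map_mul]
  apply Units.ext
  rw [Units.val_mul, Units.val_mul]
  exact key.eq

/-- the Galois restriction on the normaliser -/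
theorem pi_norm_ree (hK : Fintype.card K = 3 ^ (2 * m + 1)) (hm : 1 ≤ m) (p : ℕ) (hp : p.Prime)
    (hpd : p ∣ (3 ^ (2 * m + 1)) ^ 2 - 3 ^ (2 * m + 1) + 1) (x : ↥(twistedG2 K (3 ^ m)))
    (hx : orderOf x = p) (g : ↥(twistedG2 K (3 ^ m))) (k : ℕ) (hg : g * x * g⁻¹ = x ^ k) :
    ∃ i : ℕ, i < 6 ∧ k ≡ (3 ^ (2 * m + 1)) ^ i [MOD p] := by
  obtain ⟨ρ, hρ⟩ := exists_rep7 (K := K) hK hm
  obtain ⟨h6, hlt⟩ := pi_arith (3 ^ (2 * m + 1)) p (by positivity)
    (Dvd.intro_left (3 ^ (2 * m)) (by ring)) hp hpd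
  rw [← hK] at h6 hlt ⊢
  have hM : ((ρ x : GL (Fin 7) K) : Matrix (Fin 7) (Fin 7) K) ^ p = 1 := by
    rw [← Units.val_pow_eq_pow_val, ← map_pow, ← hx, pow_orderOf_eq_one, map_one, Units.val_one]
  have hM1 : ((ρ x : GL (Fin 7) K) : Matrix (Fin 7) (Fin 7) K) ≠ 1 := by
    intro h
    have h1 : ρ x = 1 := Units.ext h
    have h2 : x = 1 := hρ (by rw [h1, map_one])
    rw [h2, orderOf_one] at hx
    exact hp.one_lt.ne hx
  apply Cfsg.Agent.Helper11.ReeP45.P5_pow_of_conj hp h6 hlt _ ((ρ g : GL (Fin 7) K) : Matrix (Fin 7) (Fin 7) K)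
    hM hM1 (Units.isUnit _) k
  have : g * x = x ^ k * g := by rw [← hg]; group
  rw [← Units.val_pow_eq_pow_val, ← map_pow, ← Units.val_mul, ← Units.val_mul, ← map_mul, ← map_mul, this]

omit [Fintype K] in
/-- a subgroup which is the union of two cosets of `H` -/
theorem card_of_two_cosets {G : Type*} [Group G] [Finite G] (H N : Subgroup G) (n : G)
    (hle : H ≤ N) (hn : n ∈ N) (hnH : n ∉ H) (hN : ∀ g ∈ N, g ∈ H ∨ ∃ h₀ ∈ H, g = h₀ * n) :
    Nat.card N = 2 * Nat.card H := by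
  have hidx : (H.subgroupOf N).index = 2 := by
    rw [Subgroup.index_eq_two_iff]
    refine ⟨⟨n, hn⟩⁻¹, fun b => ?_⟩
    simp only [Subgroup.mem_subgroupOf, Subgroup.coe_mul, Subgroup.coe_inv]
    rcases hN b b.2 with h | ⟨h₀, hh₀, e⟩
    · refine Or.inr ⟨h, fun h2 => hnH ?_⟩
      have : n = ((b : G) * n⁻¹)⁻¹ * b := by group
      rw [this]
      exact Subgroup.mul_mem _ (Subgroup.inv_mem _ h2) h
    · refine Or.inl ⟨by rw [e, mul_inv_cancel_right]; exact hh₀, fun h2 => hnH ?_⟩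
      have : n = h₀⁻¹ * b := by rw [e]; group
      rw [this]
      exact Subgroup.mul_mem _ (Subgroup.inv_mem _ hh₀) h2
  rw [← Subgroup.card_mul_index (H.subgroupOf N), hidx,
    Nat.card_congr (Subgroup.subgroupOfEquivOfLe hle).toEquiv, mul_comm]

include C hK Φ in
/-- the order of the normaliser of the torus -/
theorem card_normalizer_H1 (hm : 1 ≤ m) :
    Nat.card (Subgroup.normalizer ((H1 K m : Subgroup ↥(twistedG2 K (3 ^ m))) :
      Set ↥(twistedG2 K (3 ^ m)))) = 2 * (3 ^ (2 * m + 1) - 1) := by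
  have hfin : Finite ↥(twistedG2 K (3 ^ m)) := Subtype.finite
  have hn : nG K m ∈ Subgroup.normalizer ((H1 K m : Subgroup ↥(twistedG2 K (3 ^ m))) :
      Set ↥(twistedG2 K (3 ^ m))) := by
    rw [mem_normalizer_H1 C hK Φ hm]
    exact Or.inr ⟨1, Subgroup.one_mem _, (one_mul _).symm⟩
  have hnH : nG K m ∉ H1 K m := fun h => (r1 C).n_not_mem_B ((r1 C).H_le_B h)
  rw [card_of_two_cosets (H1 K m) _ (nG K m) Subgroup.le_normalizer hn hnH
    (fun g hg => (mem_normalizer_H1 C hK Φ hm).1 hg), card_H1 C hK]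

include C hK in
/-- the elements of order divisible by `3` -/
theorem three_singular_ree :
    (∀ g : ↥(twistedG2 K (3 ^ m)), 3 ∣ orderOf g → orderOf g = 3 ∨ orderOf g = 6 ∨ orderOf g = 9) ∧
    Nat.card {g : ↥(twistedG2 K (3 ^ m)) // orderOf g = 3} =
      ((3 ^ (2 * m + 1)) ^ 2 - 1) * ((3 ^ (2 * m + 1)) ^ 3 + 1) ∧
    Nat.card {g : ↥(twistedG2 K (3 ^ m)) // orderOf g = 9} =
      (3 ^ (2 * m + 1)) ^ 2 * (3 ^ (2 * m + 1) - 1) * ((3 ^ (2 * m + 1)) ^ 3 + 1) ∧
    Nat.card {g : ↥(twistedG2 K (3 ^ m)) // orderOf g = 6} =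
      (3 ^ (2 * m + 1)) ^ 2 * (3 ^ (2 * m + 1) - 1) * ((3 ^ (2 * m + 1)) ^ 3 + 1) := by
  have hfin : Finite ↥(twistedG2 K (3 ^ m)) := Subtype.finite
  exact Cfsg.Agent.Helper16.ReeP8.P8_three_singular (3 ^ (2 * m + 1)) ⟨2 * m + 1, by omega, rfl⟩
    (ReeCtx.U1 (K := K) (m := m)) (H1 K m) (C.aG hK) (C.card_U1 hK) (ti_U1 C hK) (r1 C).hHU
    (card_H1 C hK) (H1_comm C hK) (aG_mem_H1 C hK) (orderOf_aG C hK) (H1_invol C hK) (H1_free C hK)
    (card_cent_aG_U1 C hK) (cent_aG_U1_cube C hK) (U1_pow_nine C hK) (card_U1_cube C hK)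
    (C.card_ree hK)

end Cfsg.Agent.Helper6.ReeLoc
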