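import Mathlib
import Cfsg.Agent.Helper6.ReeLoc.Inst1

set_option autoImplicit false
set_option linter.unusedSectionVars false
set_option linter.unusedVariables false

/-!
The Ree-specific inputs of the local analysis of `²G₂(q)`, part 2: involutions.
-/

namespace Cfsg.Agent.Helper6.ReeLoc

open Cfsg.Lie Cfsg.Agent.Helper6 Cfsg.Agent.Helper6.Ree Cfsg.Agent.Helper6.ReeAut

variable {K : Type*} [Field K] [Fintype K] {m : ℕ} (C : ReeCtx K m)
  (hK : Fintype.card K = 3 ^ (2 * m + 1)) (Φ : InvHom K m)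

include C hK Φ

/-- `2`-subgroups have exponent `2` -/
theorem two_sq_ree (Q : Subgroup ↥(twistedG2 K (3 ^ m))) (hQ : IsPGroup 2 Q) :
    ∀ x ∈ Q, x * x = 1 := by
  have : Fact (Nat.Prime 2) := ⟨Nat.prime_two⟩
  have hfin : Finite ↥(twistedG2 K (3 ^ m)) := Subtype.finite
  obtain ⟨P, hP⟩ := hQ.exists_le_sylow
  intro x hx
  exact (Φ.sylow_two C hK P).2 x (hP hx)

/-- the centraliser of the involution, as a subgroup -/
theorem centralizer_aG_eq :
    Subgroup.centralizer ({C.aG hK} : Set ↥(twistedG2 K (3 ^ m))) =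
      dbl (C.aG hK) Φ.φG.range (C.aG_sq hK) (aG_commute_range C hK Φ) := by
  ext x
  rw [Subgroup.mem_centralizer_singleton_iff, mem_dbl]
  constructor
  · intro h
    have hc : Commute (C.aG hK) x := h.symm
    obtain ⟨g, hg | hg⟩ := Φ.cent_aG C hK hc
    · exact Or.inl ⟨g, hg.symm⟩
    · right
      refine ⟨g, ?_⟩
      rw [hg, ← mul_assoc, C.aG_sq hK, one_mul]
  · intro h
    exact (dbl_commute_j (hj := C.aG_sq hK) (hc := aG_commute_range C hK Φ) x h).eq.symm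

theorem card_centralizer_aG :
    Nat.card (Subgroup.centralizer ({C.aG hK} : Set ↥(twistedG2 K (3 ^ m)))) =
      3 ^ (2 * m + 1) * ((3 ^ (2 * m + 1)) ^ 2 - 1) := by
  have hfin : Finite ↥(twistedG2 K (3 ^ m)) := Subtype.finite
  have := C.char3
  have : Fact (Nat.Prime 3) := ⟨Nat.prime_three⟩
  rw [centralizer_aG_eq C hK Φ, card_dbl (aG_not_mem_range C hK Φ)]
  have h1 := card_map_of_ker_two Φ.φG ⊤ (-1) (neg_one_ne_one C hK Φ) (Subgroup.mem_top _)
    (φG_ker C hK Φ)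
  rw [Subgroup.card_top, ← MonoidHom.range_eq_map, Cfsg.Agent.Helper2.SL2.card_SL2 (F := K), hK] at h1
  exact h1.symm

/-- the fusion of involutions and four-groups -/
theorem sylow_eight_ree (hm : 1 ≤ m) :
    (∀ a b : ↥(twistedG2 K (3 ^ m)), orderOf a = 2 → orderOf b = 2 → ∃ g, g * a * g⁻¹ = b) ∧
    (∀ V : Subgroup ↥(twistedG2 K (3 ^ m)), Nat.card V = 4 →
      ∃ g ∈ Subgroup.normalizer (V : Set ↥(twistedG2 K (3 ^ m))), ∀ v ∈ V, v ≠ 1 → g * v * g⁻¹ ≠ v) ∧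
    (∀ V W : Subgroup ↥(twistedG2 K (3 ^ m)), Nat.card V = 4 → Nat.card W = 4 →
      ∃ g, W = V.map (MulAut.conj g).toMonoidHom) := by
  have : Fact (Nat.Prime 2) := ⟨Nat.prime_two⟩
  have hfin : Finite ↥(twistedG2 K (3 ^ m)) := Subtype.finite
  obtain ⟨S⟩ : Nonempty (Sylow 2 ↥(twistedG2 K (3 ^ m))) := inferInstance
  obtain ⟨h1, h2⟩ := Φ.sylow_two C hK S
  obtain ⟨h3, h4⟩ := Φ.sylow_two_normalizer C hK hm S
  exact Cfsg.Agent.Helper4.ReeP1.P1_sylow_eight S h1 h2 h3 h4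

/-- the number of involutions -/
theorem card_involutions_ree (hm : 1 ≤ m) :
    Nat.card {g : ↥(twistedG2 K (3 ^ m)) // orderOf g = 2} =
      (3 ^ (2 * m + 1)) ^ 2 * ((3 ^ (2 * m + 1)) ^ 2 - 3 ^ (2 * m + 1) + 1) := by
  have hfin : Finite ↥(twistedG2 K (3 ^ m)) := Subtype.finite
  have hP3 := Cfsg.Agent.Helper23.ReeP3.P3_card_conj_union
    (Subgroup.centralizer ({C.aG hK} : Set ↥(twistedG2 K (3 ^ m)))) ({C.aG hK} : Set ↥(twistedG2 K (3 ^ m)))
    (by
      intro g hg y hy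
      rw [Set.mem_singleton_iff] at hy ⊢
      subst hy
      rw [Subgroup.mem_centralizer_singleton_iff] at hg
      rw [hg, mul_inv_cancel_right])
    (by
      intro g y hy h
      rw [Set.mem_singleton_iff] at hy h
      subst hy
      rw [Subgroup.mem_centralizer_singleton_iff]
      rw [mul_inv_eq_iff_eq_mul] at h
      exact h)
  have hset : {z : ↥(twistedG2 K (3 ^ m)) // ∃ g : ↥(twistedG2 K (3 ^ m)),
      ∃ y ∈ ({C.aG hK} : Set ↥(twistedG2 K (3 ^ m))), z = g * y * g⁻¹} =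
      {g : ↥(twistedG2 K (3 ^ m)) // orderOf g = 2} := by
    congr 1
    ext z
    constructor
    · rintro ⟨g, y, hy, rfl⟩
      rw [Set.mem_singleton_iff] at hy
      subst hy
      have := (MulAut.conj g).orderOf_eq (C.aG hK)
      rw [MulAut.conj_apply] at this
      show orderOf (g * C.aG hK * g⁻¹) = 2
      rw [this]
      exact orderOf_aG C hK
    · intro hz
      obtain ⟨g, hg⟩ := (sylow_eight_ree C hK Φ hm).1 _ z (orderOf_aG C hK) hz
      exact ⟨g, _, rfl, hg.symm⟩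
  have hone : Nat.card (({C.aG hK} : Set ↥(twistedG2 K (3 ^ m)))) = 1 := by
    rw [Nat.card_eq_fintype_card]
    simp
  rw [hset, card_centralizer_aG C hK Φ, hone, mul_one, C.card_ree hK] at hP3
  have hq : 3 ^ 1 ≤ 3 ^ (2 * m + 1) := Nat.pow_le_pow_right (by norm_num) (by omega)
  rw [pow_one] at hq
  generalize 3 ^ (2 * m + 1) = q at hP3 hq ⊢
  obtain ⟨t, rfl⟩ : ∃ t, q = t + 1 := ⟨q - 1, by omega⟩
  have e1 : (t + 1) ^ 2 - 1 = t ^ 2 + 2 * t := by
    have : (t + 1) ^ 2 = t ^ 2 + 2 * t + 1 := by ring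
    omega
  have e2 : (t + 1) ^ 2 - (t + 1) + 1 = t ^ 2 + t + 1 := by
    have : (t + 1) ^ 2 = t ^ 2 + t + (t + 1) := by ring
    omega
  have e3 : t + 1 - 1 = t := by omega
  rw [e1, e3] at hP3
  rw [e2]
  have ht : 0 < t := by omega
  have hpos : 0 < (t + 1) * (t ^ 2 + 2 * t) := by positivity
  apply Nat.eq_of_mul_eq_mul_right hpos
  rw [hP3]
  ring

include C hK Φ in
/-- the centraliser of an involution has exponent dividing `q(q² - 1)` -/
theorem cent2_ree (hm : 1 ≤ m) (x y : ↥(twistedG2 K (3 ^ m))) (hx : orderOf x = 2)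
    (hc : Commute y x) : y ^ (3 ^ (2 * m + 1) * ((3 ^ (2 * m + 1)) ^ 2 - 1)) = 1 := by
  have hfin : Finite ↥(twistedG2 K (3 ^ m)) := Subtype.finite
  obtain ⟨g, hg⟩ := (sylow_eight_ree C hK Φ hm).1 _ _ hx (orderOf_aG C hK)
  have hmem : g * y * g⁻¹ ∈ Subgroup.centralizer ({C.aG hK} : Set ↥(twistedG2 K (3 ^ m))) := by
    rw [Subgroup.mem_centralizer_singleton_iff, ← hg]
    have := hc.eq
    calc g * y * g⁻¹ * (g * x * g⁻¹) = g * (y * x) * g⁻¹ := by group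
      _ = g * (x * y) * g⁻¹ := by rw [this]
      _ = g * x * g⁻¹ * (g * y * g⁻¹) := by group
  have h1 : (⟨g * y * g⁻¹, hmem⟩ : ↥(Subgroup.centralizer ({C.aG hK} : Set ↥(twistedG2 K (3 ^ m))))) ^
      Nat.card ↥(Subgroup.centralizer ({C.aG hK} : Set ↥(twistedG2 K (3 ^ m)))) = 1 := pow_card_eq_one'
  rw [card_centralizer_aG C hK Φ] at h1
  have h2 := congrArg Subtype.val h1
  simp only [Subgroup.coe_pow, Subgroup.coe_one] at h2
  have h3 : (g * y * g⁻¹) ^ (3 ^ (2 * m + 1) * ((3 ^ (2 * m + 1)) ^ 2 - 1)) =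
      g * y ^ (3 ^ (2 * m + 1) * ((3 ^ (2 * m + 1)) ^ 2 - 1)) * g⁻¹ := by
    have := (MulAut.conj g).toMonoidHom.map_pow y (3 ^ (2 * m + 1) * ((3 ^ (2 * m + 1)) ^ 2 - 1))
    simp only [MulEquiv.toMonoidHom_eq_coe, MonoidHom.coe_coe, MulAut.conj_apply] at this
    exact this.symm
  rw [h3] at h2
  have : y ^ (3 ^ (2 * m + 1) * ((3 ^ (2 * m + 1)) ^ 2 - 1)) =
      g⁻¹ * (g * y ^ (3 ^ (2 * m + 1) * ((3 ^ (2 * m + 1)) ^ 2 - 1)) * g⁻¹) * g := by group
  rw [this, h2]; group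

end Cfsg.Agent.Helper6.ReeLoc
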