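import Mathlib
import Cfsg.Agent.Helper6.ReeLoc.SC
import Cfsg.Agent.Helper6.ReeLoc.Cyc
import Cfsg.Agent.Helper6.ReeLoc.Dbl

set_option autoImplicit false
set_option linter.unusedSectionVars false
set_option linter.unusedVariables false

/-!
General lemmas for the quarter-torus family.
-/

namespace Cfsg.Agent.Helper6.ReeLoc

open Subgroup

variable {G : Type*} [Group G]

/-- a normal Hall subgroup contains the elements of its overgroup killed by its order -/
theorem mem_of_pow_eq_one_of_normal_hall [Finite G] (A N : Subgroup G) (hle : A ≤ N)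
    (hnorm : N ≤ normalizer (A : Set G)) (k e : ℕ) (hA : Nat.card A = k) (hN : Nat.card N = e * k)
    (hcop : Nat.Coprime k e) {x : G} (hx : x ∈ N) (hxk : x ^ k = 1) : x ∈ A := by
  have hnormal : (A.subgroupOf N).Normal := (normal_subgroupOf_iff_le_normalizer hle).2 hnorm
  have hk0 : 0 < k := by rw [← hA]; exact Nat.card_pos
  have hcardQ : Nat.card (↥N ⧸ A.subgroupOf N) = e := by
    have h1 := Subgroup.card_mul_index (A.subgroupOf N)
    rw [Nat.card_congr (Subgroup.subgroupOfEquivOfLe hle).toEquiv, hA, hN, mul_comm e k] at h1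
    rw [← Subgroup.index_eq_card]
    exact Nat.eq_of_mul_eq_mul_left hk0 h1
  set x' : ↥N := ⟨x, hx⟩ with hx'
  have h1 : (QuotientGroup.mk x' : ↥N ⧸ A.subgroupOf N) ^ k = 1 := by
    rw [← QuotientGroup.mk_pow]
    have : x' ^ k = 1 := Subtype.ext (by simpa using hxk)
    rw [this]; rfl
  have h2 : (QuotientGroup.mk x' : ↥N ⧸ A.subgroupOf N) ^ e = 1 := by
    rw [← hcardQ]; exact pow_card_eq_one'
  have h3 : orderOf (QuotientGroup.mk x' : ↥N ⧸ A.subgroupOf N) ∣ Nat.gcd k e :=
    Nat.dvd_gcd (orderOf_dvd_of_pow_eq_one h1) (orderOf_dvd_of_pow_eq_one h2)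
  rw [hcop.gcd_eq_one, Nat.dvd_one, orderOf_eq_one_iff, QuotientGroup.eq_one_iff] at h3
  exact h3

/-- two subgroups of coprime orders generate a subgroup of order at least the product -/
theorem sup_eq_of_coprime_card [Finite G] (V A T : Subgroup G) (hV : V ≤ T) (hA : A ≤ T)
    (hcop : Nat.Coprime (Nat.card V) (Nat.card A)) (hT : Nat.card T = Nat.card V * Nat.card A) :
    V ⊔ A = T := by
  apply Subgroup.eq_of_le_of_card_ge (sup_le hV hA)
  rw [hT]
  have h1 : Nat.card V ∣ Nat.card (V ⊔ A : Subgroup G) := Subgroup.card_dvd_of_le le_sup_left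
  have h2 : Nat.card A ∣ Nat.card (V ⊔ A : Subgroup G) := Subgroup.card_dvd_of_le le_sup_right
  exact Nat.le_of_dvd Nat.card_pos (hcop.mul_dvd_of_dvd_of_dvd h1 h2)

/-- groups of exponent `2` are abelian -/
theorem commute_of_sq_eq_one {a b : G} (ha : a * a = 1) (hb : b * b = 1) (hab : (a * b) * (a * b) = 1) :
    Commute a b := by
  have h1 : a⁻¹ = a := inv_eq_of_mul_eq_one_left ha
  have h2 : b⁻¹ = b := inv_eq_of_mul_eq_one_left hb
  have h3 : (a * b)⁻¹ = a * b := inv_eq_of_mul_eq_one_left hab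
  rw [mul_inv_rev, h1, h2] at h3
  exact h3.symm

/-- conjugation by an element of two normalisers preserves the join -/
theorem conj_mem_sup_of_normalizer {V A : Subgroup G} {g : G} (hV : g ∈ normalizer (V : Set G))
    (hA : g ∈ normalizer (A : Set G)) : g ∈ normalizer ((V ⊔ A : Subgroup G) : Set G) := by
  rw [mem_normalizer_iff_map_conj_eq] at hV hA ⊢
  have hV' : V.map (MulAut.conj g).toMonoidHom = V := hV
  have hA' : A.map (MulAut.conj g).toMonoidHom = A := hA
  show (V ⊔ A).map (MulAut.conj g).toMonoidHom = V ⊔ A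
  rw [Subgroup.map_sup, hV', hA']

/-- the elements of square `1` of an abelian group of order `4k`, `k` odd, containing a
four-group `V` of exponent `2`, are those of `V` -/
theorem mem_of_sq_eq_one_of_four [Finite G] (T V : Subgroup G) (hVT : V ≤ T)
    (hcomm : ∀ a ∈ T, ∀ b ∈ T, Commute a b) (hV4 : Nat.card V = 4) (hVexp : ∀ v ∈ V, v * v = 1)
    {k : ℕ} (hk : Odd k) (hT : Nat.card T = 4 * k) {x : G} (hx : x ∈ T) (hx2 : x * x = 1) :
    x ∈ V := by
  classical
  let E : Subgroup G :=
    { carrier := {t | t ∈ T ∧ t * t = 1}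
      one_mem' := ⟨T.one_mem, one_mul 1⟩
      mul_mem' := by
        rintro a b ⟨ha, ha'⟩ ⟨hb, hb'⟩
        refine ⟨T.mul_mem ha hb, ?_⟩
        have := (hcomm a ha b hb).eq
        calc a * b * (a * b) = a * (b * a) * b := by group
          _ = a * (a * b) * b := by rw [this]
          _ = (a * a) * (b * b) := by group
          _ = 1 := by rw [ha', hb', one_mul]
      inv_mem' := by
        rintro a ⟨ha, ha'⟩
        refine ⟨T.inv_mem ha, ?_⟩
        rw [← mul_inv_rev, ha', inv_one] }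
  have hVE : V ≤ E := fun v hv => ⟨hVT hv, hVexp v hv⟩
  have hET : E ≤ T := fun t ht => ht.1
  have : Fact (Nat.Prime 2) := ⟨Nat.prime_two⟩
  have hE2 : IsPGroup 2 E := by
    intro t
    refine ⟨1, ?_⟩
    apply Subtype.ext
    rw [pow_one, pow_two]
    exact t.2.2
  obtain ⟨n, hn⟩ := hE2.exists_card_eq
  have hdvd : 2 ^ n ∣ 4 * k := by
    rw [← hn, ← hT]
    exact Subgroup.card_dvd_of_le hET
  have hdvd4 : 2 ^ n ∣ 4 := by
    have hcop : Nat.Coprime (2 ^ n) k :=
      Nat.Coprime.pow_left n (Nat.coprime_two_left.2 hk)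
    exact hcop.dvd_of_dvd_mul_right hdvd
  have hEV : E = V := by
    symm
    apply Subgroup.eq_of_le_of_card_ge hVE
    rw [hn, hV4]
    exact Nat.le_of_dvd (by norm_num) hdvd4
  rw [← hEV]
  exact ⟨hx, hx2⟩

end Cfsg.Agent.Helper6.ReeLoc
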