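import Mathlib
import Cfsg.Agent.Helper6.ReeLoc.Q1a
import Cfsg.Agent.Helper4.ReeP1
import Cfsg.Agent.Helper18.ReeP2
import Cfsg.Agent.Helper24.ReeP9

set_option autoImplicit false
set_option linter.unusedSectionVars false
set_option linter.unusedVariables false
set_option maxHeartbeats 800000

/-!
The family of order `k = (q+1)/4`: abstract form.
-/

namespace Cfsg.Agent.Helper6.ReeLoc

open Subgroup

/-- `2`-subgroups have exponent `2` when a Sylow `2`-subgroup has -/
theorem two_sq_of_sylow {G : Type*} [Group G] [Finite G] (S : Sylow 2 G)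
    (hexp : ∀ x ∈ S, x * x = 1) (Q : Subgroup G) (hQ : IsPGroup 2 Q) : ∀ x ∈ Q, x * x = 1 := by
  obtain ⟨g, hg⟩ := Cfsg.Agent.Helper4.ReeP1.exists_conj_mem_sylow S Q hQ
  intro x hx
  have h1 := hexp _ (hg x hx)
  have h2 : g * x * g⁻¹ * (g * x * g⁻¹) = g * (x * x) * g⁻¹ := by group
  rw [h2] at h1
  have : x * x = g⁻¹ * (g * (x * x) * g⁻¹) * g := by group
  rw [this, h1]; group

/-- `2`-subgroups are abelian when a Sylow `2`-subgroup has exponent `2` -/
theorem two_ab_of_sylow {G : Type*} [Group G] [Finite G] (S : Sylow 2 G)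
    (hexp : ∀ x ∈ S, x * x = 1) (Q : Subgroup G) (hQ : IsPGroup 2 Q) :
    ∀ a ∈ Q, ∀ b ∈ Q, Commute a b := by
  intro a ha b hb
  have h := two_sq_of_sylow S hexp Q hQ
  exact commute_of_sq_eq_one (h a ha) (h b hb) (h _ (Q.mul_mem ha hb))

/-- Q1: the family of order `k = (q+1)/4` -/
theorem Q1_quarter_torus {G : Type*} [Group G] [Finite G] (k c3 : ℕ) (hk : Odd k) (hk1 : 1 < k)
    (hcop : Nat.Coprime k c3)
    (S : Sylow 2 G) (hcard : Nat.card S = 8) (hexp : ∀ x ∈ S, x * x = 1)
    (hC : Subgroup.centralizer ((S : Subgroup G) : Set G) = S)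
    (hN : Nat.card (Subgroup.normalizer ((S : Subgroup G) : Set G)) = 168)
    (hcyc : ∀ p : ℕ, p.Prime → 3 < p → ∀ P : Sylow p G, IsCyclic P)
    (hcent3 : ∀ x y : G, orderOf x = 3 → Commute y x → y ^ c3 = 1)
    (j j' : G) (A' T CV : Subgroup G)
    (hj : j * j = 1) (hj1 : j ≠ 1) (hjA : j ∉ A') (hjc : ∀ a ∈ A', Commute j a)
    (hA'cyc : IsCyclic A') (hA'card : Nat.card A' = 2 * k)
    (hT : ∀ x : G, x ∈ T ↔ x ∈ A' ∨ j * x ∈ A')
    (hcentjy : ∀ y ∈ A', y * y ≠ 1 → ∀ x : G, Commute x j → Commute x y → x ∈ T)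
    (hj' : j' ∈ A') (hj'1 : j' ≠ 1) (hj'2 : j' * j' = 1)
    (hCV : ∀ x : G, (Commute x j ∧ Commute x j') ↔ x ∈ CV) (hCVcard : Nat.card CV = 8 * k)
    (hCVA : ∀ d ∈ CV, ∀ a ∈ A', d * a * d⁻¹ ∈ A') :
    ∃ A₁ V : Subgroup G, A₁ ≤ A' ∧ Nat.card A₁ = k ∧ IsCyclic A₁ ∧
      (∀ y ∈ A₁, y ≠ 1 → ∀ g : G, Commute g y → g ∈ T) ∧
      V ≤ T ∧ Nat.card V = 4 ∧
      Subgroup.normalizer (V : Set G) = Subgroup.normalizer (T : Set G) ∧
      Nat.card (Subgroup.normalizer (T : Set G)) = 24 * k := by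
  classical
  have : Fact (Nat.Prime 2) := ⟨Nat.prime_two⟩
  have h2sq := two_sq_of_sylow S hexp
  have h2ab := two_ab_of_sylow S hexp
  obtain ⟨hP1a, hP1b, hP1c⟩ := Cfsg.Agent.Helper4.ReeP1.P1_sylow_eight S hcard hexp hC hN
  -- `T = A' ∪ jA'`
  have hTeq : T = dbl j A' hj hjc := by
    ext x; rw [hT, mem_dbl]
  have hTcard : Nat.card T = 4 * k := by
    rw [hTeq, card_dbl hjA, hA'card]; ring
  have hA'comm : ∀ a ∈ A', ∀ b ∈ A', Commute a b := by
    intro a ha b hb
    have h2 := (IsCyclic.commGroup (α := A')).mul_comm ⟨a, ha⟩ ⟨b, hb⟩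
    exact congrArg Subtype.val h2
  have hTcomm : ∀ a ∈ T, ∀ b ∈ T, Commute a b := by
    rw [hTeq]; exact dbl_comm hA'comm
  have hA'T : A' ≤ T := by rw [hTeq]; exact le_dbl
  have hjT : j ∈ T := by rw [hTeq]; exact j_mem_dbl
  -- the four-group
  have hzc : ∀ x ∈ zpowers j', Commute j x := fun x hx => hjc x ((zpowers_le.2 hj') hx)
  set V : Subgroup G := dbl j (zpowers j') hj hzc with hVdef
  have hoj' : orderOf j' = 2 := by
    rw [orderOf_eq_prime_iff]
    exact ⟨by rw [pow_two]; exact hj'2, hj'1⟩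
  have hVcard : Nat.card V = 4 := by
    rw [hVdef, card_dbl (fun h => hjA ((zpowers_le.2 hj') h)), Nat.card_zpowers, hoj']
  have hVT : V ≤ T := by
    rintro x (hx | hx)
    · exact hA'T ((zpowers_le.2 hj') hx)
    · rw [hT]; exact Or.inr ((zpowers_le.2 hj') hx)
  have hV2 : IsPGroup 2 V := IsPGroup.of_card (n := 2) (by rw [hVcard]; norm_num)
  have hVexp : ∀ v ∈ V, v * v = 1 := h2sq V hV2
  have hjV : j ∈ V := j_mem_dbl
  have hj'V : j' ∈ V := le_dbl (mem_zpowers j')
  -- elements of `V`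
  have hVelts : ∀ v ∈ V, v = 1 ∨ v = j' ∨ v = j ∨ v = j * j' := by
    have hz : ∀ x ∈ zpowers j', x = 1 ∨ x = j' := by
      intro x hx
      obtain ⟨n, rfl⟩ := mem_zpowers_iff.1 hx
      rcases Int.even_or_odd n with ⟨c, hc⟩ | ⟨c, hc⟩
      · left
        rw [hc, ← two_mul, zpow_mul, zpow_ofNat, pow_two, hj'2, one_zpow]
      · right
        rw [hc, zpow_add, zpow_mul, zpow_ofNat, pow_two, hj'2, one_zpow, one_mul, zpow_one]
    rintro v (hv | hv)
    · rcases hz v hv with h | h
      · exact Or.inl h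
      · exact Or.inr (Or.inl h)
    · rcases hz _ hv with h | h
      · right; right; left
        have : v = j * (j * v) := by rw [← mul_assoc, hj, one_mul]
        rw [this, h, mul_one]
      · right; right; right
        have : v = j * (j * v) := by rw [← mul_assoc, hj, one_mul]
        rw [this, h]
  -- the centraliser of `V`
  have hcentV : centralizer (V : Set G) = CV := by
    ext x
    rw [← hCV, mem_centralizer_iff]
    constructor
    · intro h
      exact ⟨(h j hjV).symm, (h j' hj'V).symm⟩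
    · rintro ⟨h1, h2⟩ v hv
      rcases hVelts v hv with rfl | rfl | rfl | rfl
      · simp
      · exact h2.eq.symm
      · exact h1.eq.symm
      · exact (h1.mul_right h2).eq.symm
  -- the subgroup of order `k`
  obtain ⟨A₁, hA₁A', hA₁card, hA₁cyc⟩ :=
    exists_subgroup_card_of_cyclic A' hA'cyc (d := k) (by rw [hA'card]; exact Dvd.intro_left 2 rfl)
  have hA₁T : A₁ ≤ T := hA₁A'.trans hA'T
  have hTCV : T ≤ CV := by
    intro t ht
    rw [← hCV]
    exact ⟨hTcomm t ht j hjT, hTcomm t ht j' (hA'T hj')⟩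
  have hA₁CV : A₁ ≤ CV := hA₁T.trans hTCV
  have hCVnorm : CV ≤ normalizer (A₁ : Set G) := by
    intro d hd
    have key : ∀ d ∈ CV, cj d A₁ ≤ A₁ := by
      intro d hd
      have h1 : cj d A₁ ≤ A' := by
        intro x hx
        rw [mem_cj] at hx
        have := hCVA d hd _ (hA₁A' hx)
        have e : d * (d⁻¹ * x * d) * d⁻¹ = x := by group
        rwa [e] at this
      exact le_of_eq (Cfsg.Agent.Helper23.eq_of_card_eq_of_isCyclic A' hA'cyc _ _ h1 hA₁A'
        (card_cj d A₁))
    rw [mem_normalizer_iff_map_conj_eq]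
    exact Subgroup.eq_of_le_of_card_ge (key d hd) (card_cj d A₁).ge
  have hkcop : Nat.Coprime k 8 := by
    have : (8 : ℕ) = 2 ^ 3 := by norm_num
    rw [this]
    exact Nat.Coprime.pow_right 3 (Nat.coprime_two_right.2 hk)
  have hA₁mem : ∀ x ∈ CV, x ^ k = 1 → x ∈ A₁ := fun x hx hxk =>
    mem_of_pow_eq_one_of_normal_hall A₁ CV hA₁CV hCVnorm k 8 hA₁card hCVcard hkcop hx hxk
  have hA₁pow : ∀ a ∈ A₁, a ^ k = 1 := by
    intro a ha
    have : (⟨a, ha⟩ : A₁) ^ Nat.card A₁ = 1 := pow_card_eq_one'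
    rw [hA₁card] at this
    exact congrArg Subtype.val this
  -- elements of the normaliser of `V` normalise `CV`, `A₁` and `T`
  have hNV_CV : ∀ g ∈ normalizer (V : Set G), ∀ x ∈ CV, g * x * g⁻¹ ∈ CV := by
    intro g hg x hx
    have h1 := normalizer_le_normalizer_centralizer V hg
    rw [hcentV] at h1
    exact (mem_normalizer_iff.1 h1 x).1 hx
  have hNV_A₁ : normalizer (V : Set G) ≤ normalizer (A₁ : Set G) := by
    intro g hg
    have key : ∀ g ∈ normalizer (V : Set G), cj g A₁ ≤ A₁ := by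
      intro g hg x hx
      rw [mem_cj] at hx
      have e : x = g * (g⁻¹ * x * g) * g⁻¹ := by group
      rw [e]
      apply hA₁mem _ (hNV_CV g hg _ (hA₁CV hx))
      have := (MulAut.conj g).toMonoidHom.map_pow (g⁻¹ * x * g) k
      simp only [MulEquiv.toMonoidHom_eq_coe, MonoidHom.coe_coe, MulAut.conj_apply] at this
      rw [← this, hA₁pow _ hx]
      group
    rw [mem_normalizer_iff_map_conj_eq]
    exact Subgroup.eq_of_le_of_card_ge (key g hg) (card_cj g A₁).ge
  have hsup : V ⊔ A₁ = T := by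
    apply sup_eq_of_coprime_card V A₁ T hVT hA₁T
    · rw [hVcard, hA₁card]
      have : (4 : ℕ) = 2 ^ 2 := by norm_num
      rw [this]
      exact Nat.Coprime.pow_left 2 (Nat.coprime_two_left.2 hk)
    · rw [hVcard, hA₁card, hTcard]
  have hNV_T : normalizer (V : Set G) ≤ normalizer (T : Set G) := by
    intro g hg
    rw [← hsup]
    exact conj_mem_sup_of_normalizer hg (hNV_A₁ hg)
  have hNT_V : normalizer (T : Set G) ≤ normalizer (V : Set G) := by
    intro g hg
    have key : ∀ g ∈ normalizer (T : Set G), cj g V ≤ V := by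
      intro g hg x hx
      rw [mem_cj] at hx
      have hxT : x ∈ T := by
        have := (mem_normalizer_iff.1 hg (g⁻¹ * x * g)).1 (hVT hx)
        have e : g * (g⁻¹ * x * g) * g⁻¹ = x := by group
        rwa [e] at this
      apply mem_of_sq_eq_one_of_four T V hVT hTcomm hVcard hVexp hk hTcard hxT
      have h1 := hVexp _ hx
      have e : x * x = g * ((g⁻¹ * x * g) * (g⁻¹ * x * g)) * g⁻¹ := by group
      rw [e, h1]; group
    rw [mem_normalizer_iff_map_conj_eq]
    exact Subgroup.eq_of_le_of_card_ge (key g hg) (card_cj g V).ge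
  have hNeq : normalizer (V : Set G) = normalizer (T : Set G) := le_antisymm hNV_T hNT_V
  -- the element of order `3`
  obtain ⟨g₀, hg₀, hmove⟩ := hP1b V hVcard
  have hNcard : Nat.card (normalizer (T : Set G)) = 24 * k := by
    rw [← hNeq, Cfsg.Agent.Helper24.ReeP9.P9_card_normalizer_four V hVcard hVexp h2ab g₀ hg₀ hmove,
      hcentV, hCVcard]
    ring
  refine ⟨A₁, V, hA₁A', hA₁card, hA₁cyc, ?_, hVT, hVcard, hNeq, hNcard⟩
  -- the centraliser of `y ∈ A₁#`
  have hodd : ∀ y ∈ A₁, y ≠ 1 → y * y ≠ 1 := by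
    intro y hy hy1 h2
    apply hy1
    have h3 : orderOf y ∣ 2 := orderOf_dvd_of_pow_eq_one (by rw [pow_two]; exact h2)
    have h4 : orderOf y ∣ k := orderOf_dvd_of_pow_eq_one (hA₁pow y hy)
    have h5 : orderOf y ∣ Nat.gcd 2 k := Nat.dvd_gcd h3 h4
    rw [(Nat.coprime_two_left.2 hk).gcd_eq_one, Nat.dvd_one, orderOf_eq_one_iff] at h5
    exact h5
  -- conjugating the basic centraliser statement
  have hconj : ∀ n ∈ normalizer (V : Set G), ∀ y ∈ A₁, y ≠ 1 → ∀ g : G, Commute g y →
      Commute g (n * j * n⁻¹) → g ∈ T := by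
    intro n hn y hy hy1 g hgy hgv
    have hnA := hNV_A₁ hn
    have hnT := hNV_T hn
    have hy' : n⁻¹ * y * n ∈ A₁ := by
      have := (mem_normalizer_iff.1 (inv_mem hnA) y).1 hy
      simpa using this
    have hy'1 : n⁻¹ * y * n ≠ 1 := by
      intro h
      apply hy1
      have : y = n * (n⁻¹ * y * n) * n⁻¹ := by group
      rw [this, h]; group
    have h1 : Commute (n⁻¹ * g * n) j := by
      have := hgv.eq
      have e1 : n⁻¹ * g * n * j = n⁻¹ * (g * (n * j * n⁻¹)) * n := by group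
      have e2 : j * (n⁻¹ * g * n) = n⁻¹ * (n * j * n⁻¹ * g) * n := by group
      rw [Commute, SemiconjBy, e1, e2, this]
    have h2 : Commute (n⁻¹ * g * n) (n⁻¹ * y * n) := by
      have := hgy.eq
      have e1 : n⁻¹ * g * n * (n⁻¹ * y * n) = n⁻¹ * (g * y) * n := by group
      have e2 : n⁻¹ * y * n * (n⁻¹ * g * n) = n⁻¹ * (y * g) * n := by group
      rw [Commute, SemiconjBy, e1, e2, this]
    have h3 := hcentjy _ (hA₁A' hy') (hodd _ hy' hy'1) _ h1 h2
    have h4 := (mem_normalizer_iff.1 hnT _).1 h3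
    have e : n * (n⁻¹ * g * n) * n⁻¹ = g := by group
    rwa [e] at h4
  -- the three involutions are `g₀`-conjugates of `j`
  have hjne : j' ≠ j := fun h => hjA (h ▸ hj')
  have hjj'ne1 : j * j' ≠ 1 := by
    intro h
    apply hjne
    have : j' = j⁻¹ := (eq_inv_of_mul_eq_one_right h)
    rw [this, inv_eq_of_mul_eq_one_left hj]
  have hjj'nej : j * j' ≠ j := by
    intro h
    apply hj'1
    have : j * j' = j * 1 := by rw [mul_one]; exact h
    exact mul_left_cancel this
  have hjj'nej' : j * j' ≠ j' := by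
    intro h
    apply hj1
    have : j * j' = 1 * j' := by rw [one_mul]; exact h
    exact mul_right_cancel this
  set a := g₀ * j * g₀⁻¹ with ha
  set b := g₀ * a * g₀⁻¹ with hb
  have haV : a ∈ V := (mem_normalizer_iff.1 hg₀ j).1 hjV
  have hbV : b ∈ V := (mem_normalizer_iff.1 hg₀ a).1 haV
  have ha1 : a ≠ 1 := by
    intro h
    apply hj1
    have : j = g₀⁻¹ * a * g₀ := by rw [ha]; group
    rw [this, h]; group
  have haj : a ≠ j := hmove j hjV hj1
  have hba : b ≠ a := hmove a haV ha1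
  have hbj : b ≠ j := by
    intro h
    -- then `g₀` fixes `j * a`
    have hfix : g₀ * (j * a) * g₀⁻¹ = j * a := by
      have : g₀ * (j * a) * g₀⁻¹ = (g₀ * j * g₀⁻¹) * (g₀ * a * g₀⁻¹) := by group
      rw [this, ← ha, ← hb, h]
      exact (h2ab V hV2 a haV j hjV).eq
    have hjaV : j * a ∈ V := V.mul_mem hjV haV
    have hja1 : j * a ≠ 1 := by
      intro h1
      apply haj
      have : a = j⁻¹ := eq_inv_of_mul_eq_one_right h1
      rw [this, inv_eq_of_mul_eq_one_left hj]
    exact hmove _ hjaV hja1 hfix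
  have hb1 : b ≠ 1 := by
    intro h
    apply ha1
    have : a = g₀⁻¹ * b * g₀ := by rw [hb]; group
    rw [this, h]; group
  have hg₀2 : g₀ * g₀ ∈ normalizer (V : Set G) := mul_mem hg₀ hg₀
  have hbeq : b = (g₀ * g₀) * j * (g₀ * g₀)⁻¹ := by rw [hb, ha]; group
  have hall : ∀ v ∈ V, v ≠ 1 → ∀ y ∈ A₁, y ≠ 1 → ∀ g : G, Commute g y → Commute g v → g ∈ T := by
    intro v hv hv1 y hy hy1 g hgy hgv
    have hcases : v = j ∨ v = a ∨ v = b := by
      rcases hVelts v hv with h | h | h | h
      · exact absurd h hv1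
      · -- `v = j'`
        rcases hVelts a haV with h1 | h1 | h1 | h1
        · exact absurd h1 ha1
        · right; left; rw [h, h1]
        · exact absurd h1 haj
        · rcases hVelts b hbV with h2 | h2 | h2 | h2
          · exact absurd h2 hb1
          · right; right; rw [h, h2]
          · exact absurd h2 hbj
          · exact absurd (h2.trans h1.symm) hba
      · left; exact h
      · -- `v = j j'`
        rcases hVelts a haV with h1 | h1 | h1 | h1
        · exact absurd h1 ha1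
        · rcases hVelts b hbV with h2 | h2 | h2 | h2
          · exact absurd h2 hb1
          · exact absurd (h2.trans h1.symm) hba
          · exact absurd h2 hbj
          · right; right; rw [h, h2]
        · exact absurd h1 haj
        · right; left; rw [h, h1]
    rcases hcases with rfl | rfl | rfl
    · exact hcentjy y (hA₁A' hy) (hodd y hy hy1) g hgv hgy
    · exact hconj g₀ hg₀ y hy hy1 g hgy hgv
    · rw [hbeq] at hgv
      exact hconj _ hg₀2 y hy hy1 g hgy hgv
  -- apply P2 in the centraliser of `y`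
  intro y hy hy1 g hgy
  set Cy : Subgroup G := centralizer ({y} : Set G) with hCy
  have hTCy : T ≤ Cy := by
    intro t ht
    rw [hCy, mem_centralizer_singleton_iff]
    exact (hTcomm t ht y (hA₁T hy)).eq
  have hVCy : V ≤ Cy := hVT.trans hTCy
  have hgCy : g ∈ Cy := by
    rw [hCy, mem_centralizer_singleton_iff]
    exact hgy.eq
  have key : T.subgroupOf Cy = ⊤ := by
    apply Cfsg.Agent.Helper18.ReeP2.P2_eq_top_of_four (V.subgroupOf Cy) (T.subgroupOf Cy) k hk
    · intro x hx
      rw [mem_subgroupOf] at hx ⊢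
      exact hVT hx
    · rw [Nat.card_congr (Subgroup.subgroupOfEquivOfLe hVCy).toEquiv, hVcard]
    · intro v hv
      rw [mem_subgroupOf] at hv
      exact Subtype.ext (hVexp _ hv)
    · rw [Nat.card_congr (Subgroup.subgroupOfEquivOfLe hTCy).toEquiv, hTcard]
    · intro v hv hv1 c hc
      rw [mem_subgroupOf] at hv ⊢
      have hcy : Commute (c : G) y := mem_centralizer_singleton_iff.1 c.2
      exact hall (v : G) hv (fun h => hv1 (Subtype.ext h)) y hy hy1 c hcy
        (congrArg Subtype.val hc.eq)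
    · intro a ha b hb
      rw [mem_subgroupOf] at ha hb
      exact Subtype.ext (hTcomm _ ha _ hb).eq
    · -- `3 ∤ |C(y)|`
      intro h3
      have : Fact (Nat.Prime 3) := ⟨Nat.prime_three⟩
      obtain ⟨x, hx⟩ := exists_prime_orderOf_dvd_card' (G := Cy) 3 h3
      have hx' : orderOf (x : G) = 3 := by rw [Subgroup.orderOf_coe]; exact hx
      have hxy : Commute y (x : G) := (mem_centralizer_singleton_iff.1 x.2).symm
      have h1 := hcent3 _ _ hx' hxy
      have h2 := hA₁pow y hy
      have h4 : orderOf y ∣ Nat.gcd k c3 :=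
        Nat.dvd_gcd (orderOf_dvd_of_pow_eq_one h2) (orderOf_dvd_of_pow_eq_one h1)
      rw [hcop.gcd_eq_one, Nat.dvd_one, orderOf_eq_one_iff] at h4
      exact hy1 h4
    · intro Q hQ a ha b hb
      have hQ' : IsPGroup 2 (Q.map Cy.subtype) := hQ.map _
      have := h2ab _ hQ' (a : G) (mem_map_of_mem _ ha) (b : G) (mem_map_of_mem _ hb)
      exact Subtype.ext this.eq
    · intro p hp hp3 P
      have : Fact p.Prime := ⟨hp⟩
      have hP' : IsPGroup p ((P : Subgroup Cy).map Cy.subtype) := P.isPGroup'.map _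
      obtain ⟨P₂, hP₂⟩ := hP'.exists_le_sylow
      have hcyc₂ := hcyc p hp hp3 P₂
      have e1 : ↥((P : Subgroup Cy).map Cy.subtype) ≃* ↥(P : Subgroup Cy) :=
        ((P : Subgroup Cy).equivMapOfInjective Cy.subtype Cy.subtype_injective).symm
      have hcyc₃ : IsCyclic ↥((P : Subgroup Cy).map Cy.subtype) := by
        have hsub : IsCyclic ↥(((P : Subgroup Cy).map Cy.subtype).subgroupOf (P₂ : Subgroup G)) :=
          Subgroup.isCyclic _
        exact isCyclic_of_surjective (Subgroup.subgroupOfEquivOfLe hP₂)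
          (Subgroup.subgroupOfEquivOfLe hP₂).surjective
      exact isCyclic_of_surjective e1 e1.surjective
  have hmem : (⟨g, hgCy⟩ : Cy) ∈ T.subgroupOf Cy := (Subgroup.eq_top_iff' _).1 key ⟨g, hgCy⟩
  rw [mem_subgroupOf] at hmem
  exact hmem

end Cfsg.Agent.Helper6.ReeLoc
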