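import Mathlib
import Cfsg.Agent.Helper6.ReeLoc.Hyp
import Cfsg.Agent.Helper6.ReeLoc.Q1

set_option autoImplicit false
set_option linter.unusedSectionVars false
set_option linter.unusedVariables false

/-!
F2359: centralisers of the cyclic subgroups of order `(q-1)/2` and `(q+1)/4`, from `ReeHyp`.
-/

namespace Cfsg.Agent.Helper6.ReeLoc

open Subgroup

/-- `q ≥ 27` -/
theorem q_ge27 {m : ℕ} (hm : 1 ≤ m) : 27 ≤ 3 ^ (2 * m + 1) := by
  calc 27 = 3 ^ 3 := by norm_num
    _ ≤ 3 ^ (2 * m + 1) := Nat.pow_le_pow_right (by norm_num) (by omega)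

/-- `q ≡ 3 mod 8` -/
theorem q_mod8 (m : ℕ) : 3 ^ (2 * m + 1) % 8 = 3 := by
  have h : 3 ^ (2 * m + 1) = 3 * 9 ^ m := by rw [pow_succ, pow_mul]; norm_num; ring
  have h9 : 9 ^ m % 8 = 1 := by
    rw [Nat.pow_mod]; norm_num
  omega

/-- no element of order `4` -/
theorem ReeHyp.no_four {G : Type*} [Group G] [Finite G] {m : ℕ} (h : ReeHyp G m) (x : G) :
    orderOf x ≠ 4 := by
  intro hx
  have hP : IsPGroup 2 (zpowers x) := by
    apply IsPGroup.of_card (n := 2)
    rw [Nat.card_zpowers, hx]; norm_num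
  have h2 := two_sq_of_sylow h.S2 h.S2_exp (zpowers x) hP x (mem_zpowers x)
  have h3 : orderOf x ∣ 2 := orderOf_dvd_of_pow_eq_one (by rw [pow_two]; exact h2)
  rw [hx] at h3
  omega

/-- a subgroup of cardinality `> 1` is not `⊥` -/
theorem ne_bot_of_one_lt_card {G : Type*} [Group G] (X : Subgroup G) (hX : 1 < Nat.card X) :
    X ≠ ⊥ := by
  rintro rfl
  rw [Subgroup.card_bot] at hX
  omega

/-- F2359 -/
theorem F2359 {G : Type*} [Group G] [Finite G] {m : ℕ} (h : ReeHyp G m)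
    (H : Subgroup G) (hH : IsCyclic H) :
    (Nat.card H = (3 ^ (2 * m + 1) - 1) / 2 →
      IsCyclic ↥(Subgroup.centralizer (H : Set G)) ∧
        Nat.card ↥(Subgroup.centralizer (H : Set G)) = 3 ^ (2 * m + 1) - 1 ∧
        ∀ A : Subgroup G, A ≤ H → A ≠ ⊥ →
          Subgroup.centralizer (A : Set G) = Subgroup.centralizer (H : Set G)) ∧
    (Nat.card H = (3 ^ (2 * m + 1) + 1) / 4 →
      IsMulCommutative ↥(Subgroup.centralizer (H : Set G)) ∧
        Nat.card ↥(Subgroup.centralizer (H : Set G)) = 3 ^ (2 * m + 1) + 1 ∧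
        (∀ x ∈ Subgroup.centralizer (H : Set G), orderOf x ≠ 4) ∧
        ∀ A : Subgroup G, A ≤ H → A ≠ ⊥ →
          Subgroup.centralizer (A : Set G) = Subgroup.centralizer (H : Set G)) := by
  have hq := q_ge27 h.hm
  have h8 := q_mod8 m
  constructor
  · intro hcard
    obtain ⟨g, rfl⟩ := h.scH.eq_cj_of_card_eq H hH (by rw [hcard, h.cardAH])
    have hsc := h.scH.conj g
    have hne : cj g h.AH ≠ ⊥ := ne_bot_of_one_lt_card _ (by rw [hcard]; omega)
    have hc := hsc.centralizer_eq _ le_rfl hne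
    rw [hc]
    refine ⟨isCyclic_cj h.cycZH, by rw [card_cj, h.cardZH], ?_⟩
    intro A hA hA1
    exact hsc.centralizer_eq A hA hA1
  · intro hcard
    obtain ⟨g, rfl⟩ := h.scT.eq_cj_of_card_eq H hH (by rw [hcard, h.cardA1])
    have hsc := h.scT.conj g
    have hne : cj g h.A1 ≠ ⊥ := ne_bot_of_one_lt_card _ (by rw [hcard]; omega)
    have hc := hsc.centralizer_eq _ le_rfl hne
    rw [hc]
    refine ⟨⟨⟨fun a b => Subtype.ext (hsc.comm a.1 a.2 b.1 b.2).eq⟩⟩, by rw [card_cj, h.cardT],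
      fun x _ => h.no_four x, ?_⟩
    intro A hA hA1
    exact hsc.centralizer_eq A hA hA1

end Cfsg.Agent.Helper6.ReeLoc
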