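import Mathlib
import Cfsg.Agent.Helper6.ReeLoc.Hyp
import Cfsg.Agent.Helper6.ReeLoc.F2359
import Cfsg.Agent.Helper8.ReeP7
import Cfsg.Agent.Helper16.ReeR2

set_option autoImplicit false
set_option linter.unusedSectionVars false
set_option linter.unusedVariables false
set_option maxHeartbeats 800000

/-!
F2361: solvable subgroups of a group of Ree type.
-/

namespace Cfsg.Agent.Helper6.ReeLoc

open Subgroup

/-- `q² - q + 1 = (q - r + 1)(q + r + 1)` -/
theorem M_factor (m : ℕ) : (3 ^ (2 * m + 1)) ^ 2 - 3 ^ (2 * m + 1) + 1 =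
    (3 ^ (2 * m + 1) - 3 ^ (m + 1) + 1) * (3 ^ (2 * m + 1) + 3 ^ (m + 1) + 1) := by
  have hr : 3 ^ (m + 1) * 3 ^ (m + 1) = 3 * 3 ^ (2 * m + 1) := by
    rw [← pow_add, ← pow_succ']; congr 1; ring
  have hle : 3 ^ (m + 1) ≤ 3 ^ (2 * m + 1) := Nat.pow_le_pow_right (by norm_num) (by omega)
  obtain ⟨d, hd⟩ : ∃ d, 3 ^ (2 * m + 1) = 3 ^ (m + 1) + d := ⟨_, (Nat.add_sub_cancel' hle).symm⟩
  generalize 3 ^ (m + 1) = r at *
  generalize 3 ^ (2 * m + 1) = q at *
  subst hd
  have e1 : r + d - r + 1 = d + 1 := by omega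
  rw [e1]
  have e2 : (r + d) ^ 2 = (d + 1) * (r + d + r + 1) + (r + d) - 1 := by
    have : (r + d) ^ 2 + 1 = (d + 1) * (r + d + r + 1) + (r + d) := by
      have h3 : r * r = 3 * (r + d) := hr
      nlinarith
    omega
  rw [e2]
  have : 1 ≤ (d + 1) * (r + d + r + 1) := Nat.one_le_iff_ne_zero.2 (by positivity)
  omega

variable {G : Type*} [Group G] [Finite G]

/-- a non-trivial abelian `p`-subgroup, `p` dividing the order of a family, has the normaliser of
a member of the family -/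
theorem normalizer_eq_of_family {A Z : Subgroup G} (hsc : SC A Z) (p : ℕ) [Fact p.Prime]
    (hpA : p ∣ Nat.card A) (E : Subgroup G) (hE : IsPGroup p E) (hE1 : E ≠ ⊥)
    (hEc : ∀ a ∈ E, ∀ b ∈ E, Commute a b) :
    ∃ g : G, normalizer (E : Set G) = normalizer ((cj g A : Subgroup G) : Set G) := by
  have hp : p.Prime := Fact.out
  obtain ⟨P, hP⟩ := hsc.hall p hp hpA
  obtain ⟨P', hP'⟩ := hE.exists_le_sylow
  have hcard : Nat.card E ∣ Nat.card A := by
    have h1 : Nat.card E ∣ Nat.card (P' : Subgroup G) := Subgroup.card_dvd_of_le hP'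
    have h2 : Nat.card (P : Subgroup G) ∣ Nat.card A := Subgroup.card_dvd_of_le hP
    have h3 : Nat.card (P' : Subgroup G) = Nat.card (P : Subgroup G) := by
      rw [Sylow.card_eq_multiplicity P', Sylow.card_eq_multiplicity P]
    rw [h3] at h1
    exact h1.trans h2
  obtain ⟨g, hg⟩ := hsc.exists_conj_le E hEc hcard
  rw [cj_le_iff] at hg
  exact ⟨g⁻¹, (hsc.conj g⁻¹).normalizer_eq E hg hE1⟩

/-- a `2`-subgroup lies in the normaliser of a Sylow `2`-subgroup -/
theorem two_group_le_normalizer {m : ℕ} (h : ReeHyp G m) (Q : Subgroup G) (hQ : IsPGroup 2 Q) :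
    ∃ P : Sylow 2 G, Q ≤ normalizer ((P : Subgroup G) : Set G) := by
  have : Fact (Nat.Prime 2) := ⟨Nat.prime_two⟩
  obtain ⟨P, hP⟩ := hQ.exists_le_sylow
  exact ⟨P, hP.trans le_normalizer⟩

/-- F2361 -/
theorem F2361 {m : ℕ} (h : ReeFull G m) (S : Subgroup G)
    (hS : Group.IsSolvable S) :
    ∃ A : Subgroup G, S ≤ Subgroup.normalizer (A : Set G) ∧
      ((∃ P : Sylow 2 G, A = P) ∨
       (∃ P : Sylow 3 G, A = P) ∨
       (IsCyclic A ∧ (Nat.card A = (3 ^ (2 * m + 1) - 1) / 2 ∨ Nat.card A = (3 ^ (2 * m + 1) + 1) / 4 ∨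
          Nat.card A = 3 ^ (2 * m + 1) - 3 ^ (m + 1) + 1 ∨ Nat.card A = 3 ^ (2 * m + 1) + 3 ^ (m + 1) + 1))) := by
  classical
  have : Fact (Nat.Prime 2) := ⟨Nat.prime_two⟩
  obtain ⟨hq3, hq8, hq27, hqp⟩ := Cfsg.Agent.Helper16.ReeR2.q_facts m h.hm
  by_cases hS1 : S = ⊥
  · subst hS1
    exact ⟨h.S2, bot_le, Or.inl ⟨h.S2, rfl⟩⟩
  obtain ⟨p, hp, E, hES, hE1, hEp, hSN, h2⟩ := Cfsg.Agent.Helper8.ReeP7.P7_solvable S hS hS1
  have : Fact p.Prime := ⟨hp⟩
  by_cases hp2 : p = 2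
  · subst hp2
    rcases h2 rfl with h4 | hES'
    · -- `|E| ≥ 4`
      obtain ⟨g, hg⟩ := Cfsg.Agent.Helper4.ReeP1.exists_conj_mem_sylow h.S2 E hEp
      have hle : cj g E ≤ h.S2 := by
        rintro _ ⟨x, hx, rfl⟩
        exact hg x hx
      have hdvd : Nat.card E ∣ 8 := by
        rw [← card_cj g E, ← h.S2_card]
        exact Subgroup.card_dvd_of_le hle
      have hcases : Nat.card E = 4 ∨ Nat.card E = 8 := by
        have hle8 : Nat.card E ≤ 8 := Nat.le_of_dvd (by norm_num) hdvd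
        interval_cases hc : Nat.card E <;> simp_all
      rcases hcases with hc4 | hc8
      · -- `E` is conjugate to `V`
        obtain ⟨a, ha⟩ := (Cfsg.Agent.Helper4.ReeP1.P1_sylow_eight h.S2 h.S2_card h.S2_exp h.S2_cent
          h.S2_norm).2.2 h.V E h.cardV hc4
        have hA1 : h.A1 ≠ ⊥ := ne_bot_of_one_lt_card _ (by rw [h.cardA1]; omega)
        refine ⟨cj a h.A1, ?_, Or.inr (Or.inr ⟨isCyclic_cj h.scT.cyc,
          Or.inr (Or.inl (by rw [card_cj, h.cardA1]))⟩)⟩
        have e : normalizer (E : Set G) = normalizer ((cj a h.A1 : Subgroup G) : Set G) := by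
          rw [ha]
          change normalizer ((cj a h.V : Subgroup G) : Set G) = _
          rw [normalizer_cj, h.normV, ← h.scT.normalizer_A_eq hA1, ← normalizer_cj]
        rw [← e]
        exact hSN
      · -- `E` is a Sylow `2`-subgroup
        obtain ⟨P, hP⟩ := hEp.exists_le_sylow
        have hcP : Nat.card (P : Subgroup G) = 8 := by
          rw [Sylow.card_eq_multiplicity P, ← Sylow.card_eq_multiplicity h.S2]
          exact h.S2_card
        have hEP : E = P := Subgroup.eq_of_le_of_card_ge hP (by rw [hcP, hc8])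
        exact ⟨P, by rw [← hEP]; exact hSN, Or.inl ⟨P, rfl⟩⟩
    · -- `S` is a `2`-group
      rw [hES'] at hEp
      obtain ⟨P, hP⟩ := two_group_le_normalizer h.toReeHyp S hEp
      exact ⟨P, hP, Or.inl ⟨P, rfl⟩⟩
  by_cases hp3 : p = 3
  · subst hp3
    obtain ⟨P, hP⟩ := hEp.exists_le_sylow
    refine ⟨P, ?_, Or.inr (Or.inl ⟨P, rfl⟩)⟩
    intro s hs
    apply (Sylow.smul_eq_iff_mem_normalizer (g := s) (P := P)).1
    by_contra hne
    have hti := h.ti3 P (s • P) (fun e => hne e.symm)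
    obtain ⟨x, hx1⟩ := (Subgroup.ne_bot_iff_exists_ne_one (H := E)).1 hE1
    apply hx1
    have hxP : (x : G) ∈ (P : Subgroup G) := hP x.2
    have hxsP : (x : G) ∈ ((s • P : Sylow 3 G) : Subgroup G) := by
      rw [Sylow.coe_subgroup_smul, Subgroup.mem_pointwise_smul_iff_inv_smul_mem, MulAut.smul_def,
        MulAut.conj_inv_apply]
      apply hP
      have hs' : s⁻¹ ∈ normalizer (E : Set G) := Subgroup.inv_mem _ (hSN hs)
      have := (Subgroup.mem_normalizer_iff.1 hs' (x : G)).1 x.2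
      rwa [inv_inv] at this
    have : (x : G) ∈ (P : Subgroup G) ⊓ ((s • P : Sylow 3 G) : Subgroup G) := ⟨hxP, hxsP⟩
    rw [hti, Subgroup.mem_bot] at this
    exact Subtype.ext this
  · -- `p > 3`
    have hp5 : 3 < p := by
      have := hp.two_le
      omega
    obtain ⟨P, hP⟩ := hEp.exists_le_sylow
    have hPc : IsCyclic P := h.sylow_cyc p hp hp5 P
    have hEc : ∀ a ∈ E, ∀ b ∈ E, Commute a b := by
      intro a ha b hb
      have h2 := (IsCyclic.commGroup (α := P)).mul_comm ⟨a, hP ha⟩ ⟨b, hP hb⟩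
      exact congrArg Subtype.val h2
    have hEcyc : IsCyclic E := by
      have hsub : IsCyclic ↥(E.subgroupOf (P : Subgroup G)) := Subgroup.isCyclic _
      exact isCyclic_of_surjective (Subgroup.subgroupOfEquivOfLe hP)
        (Subgroup.subgroupOfEquivOfLe hP).surjective
    -- `p` divides `|G|`
    have hpG : p ∣ Nat.card G := by
      have h1 : p ∣ Nat.card E := by
        obtain ⟨n, hn⟩ := IsPGroup.iff_card.1 hEp
        have hn0 : n ≠ 0 := by
          rintro rfl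
          rw [pow_zero] at hn
          exact hE1 (Subgroup.card_eq_one.1 hn)
        rw [hn]
        exact dvd_pow_self p hn0
      exact h1.trans (Subgroup.card_subgroup_dvd_card E)
    rw [h.card] at hpG
    have hq1 : 1 ≤ 3 ^ (2 * m + 1) := by omega
    have hcases := Cfsg.Agent.Helper16.ReeR2.prime_cases hq1 hqp hp hp3 hpG
    have hfam : ∀ {A Z : Subgroup G}, SC A Z → p ∣ Nat.card A →
        ∃ g : G, S ≤ normalizer ((cj g A : Subgroup G) : Set G) := by
      intro A Z hsc hpA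
      obtain ⟨g, hg⟩ := normalizer_eq_of_family hsc p hpA E hEp hE1 hEc
      exact ⟨g, by rw [← hg]; exact hSN⟩
    rcases hcases with hc | hc | hc
    · have hpA : p ∣ Nat.card h.AH := by
        rw [h.cardAH]
        exact Cfsg.Agent.Helper16.ReeR2.odd_prime_dvd_half hq8 hp hp2 hc
      obtain ⟨g, hg⟩ := hfam h.scH hpA
      exact ⟨cj g h.AH, hg, Or.inr (Or.inr ⟨isCyclic_cj h.scH.cyc,
        Or.inl (by rw [card_cj, h.cardAH])⟩)⟩
    · have hpA : p ∣ Nat.card h.A1 := by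
        rw [h.cardA1]
        exact Cfsg.Agent.Helper16.ReeR2.odd_prime_dvd_quarter hq8 hp hp2 hc
      obtain ⟨g, hg⟩ := hfam h.scT hpA
      exact ⟨cj g h.A1, hg, Or.inr (Or.inr ⟨isCyclic_cj h.scT.cyc,
        Or.inr (Or.inl (by rw [card_cj, h.cardA1]))⟩)⟩
    · rw [← Cfsg.Agent.Helper16.ReeR2.M_eq hq1, M_factor m] at hc
      rcases (Nat.Prime.dvd_mul hp).1 hc with hc | hc
      · have hpA : p ∣ Nat.card h.Am := by rw [h.cardAm]; exact hc
        obtain ⟨g, hg⟩ := hfam h.scM hpA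
        exact ⟨cj g h.Am, hg, Or.inr (Or.inr ⟨isCyclic_cj h.scM.cyc,
          Or.inr (Or.inr (Or.inl (by rw [card_cj, h.cardAm])))⟩)⟩
      · have hpA : p ∣ Nat.card h.Ap := by rw [h.cardAp]; exact hc
        obtain ⟨g, hg⟩ := hfam h.scP hpA
        exact ⟨cj g h.Ap, hg, Or.inr (Or.inr ⟨isCyclic_cj h.scP.cyc,
          Or.inr (Or.inr (Or.inr (by rw [card_cj, h.cardAp])))⟩)⟩

end Cfsg.Agent.Helper6.ReeLoc
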