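import Mathlib
import Cfsg.Agent.Helper6.ReeLoc.Inst2

set_option autoImplicit false
set_option linter.unusedSectionVars false
set_option linter.unusedVariables false

/-!
The Ree-specific inputs of the local analysis of `²G₂(q)`, part 3: arithmetic and the hypotheses of
the quarter-torus piece.
-/

namespace Cfsg.Agent.Helper6.ReeLoc

open Cfsg.Lie Cfsg.Agent.Helper6 Cfsg.Agent.Helper6.Ree Cfsg.Agent.Helper6.ReeAut

/-- `q + 1 = 4k` with `k` odd -/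
theorem exists_k (m : ℕ) : ∃ k : ℕ, 3 ^ (2 * m + 1) + 1 = 4 * k ∧ Odd k ∧
    (3 ^ (2 * m + 1) + 1) / 4 = k := by
  have h8 := q_mod_eight m
  refine ⟨(3 ^ (2 * m + 1) + 1) / 4, by omega, ?_, rfl⟩
  rw [Nat.odd_iff]
  omega

/-- the Hall property of `(q+1)/4` -/
theorem hall_arith_T (m : ℕ) (p : ℕ) (hp : p.Prime) (hpd : p ∣ (3 ^ (2 * m + 1) + 1) / 4) :
    ¬ p ∣ 4 * (3 ^ (2 * m + 1)) ^ 3 * (3 ^ (2 * m + 1) - 1) *
      ((3 ^ (2 * m + 1)) ^ 2 - 3 ^ (2 * m + 1) + 1) := by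
  obtain ⟨k, hk, hodd, hk'⟩ := exists_k m
  rw [hk'] at hpd
  have h3 : 3 ∣ 3 ^ (2 * m + 1) := Dvd.intro_left (3 ^ (2 * m)) (by ring)
  have hq1 : 1 ≤ 3 ^ (2 * m + 1) := Nat.one_le_pow _ _ (by norm_num)
  generalize 3 ^ (2 * m + 1) = q at hk h3 hq1 ⊢
  have : Fact p.Prime := ⟨hp⟩
  have hqq : q ≤ q ^ 2 := by nlinarith
  have hp2 : p ≠ 2 := by
    rintro rfl
    rw [Nat.odd_iff] at hodd
    omega
  have hp3 : p ≠ 3 := by
    rintro rfl
    have h4 : 3 ∣ q + 1 := by rw [hk]; exact Dvd.dvd.mul_left hpd 4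
    have : 3 ∣ 1 := (Nat.dvd_add_right h3).1 h4
    omega
  intro hd
  have h1 : ((k : ℕ) : ZMod p) = 0 := (ZMod.natCast_eq_zero_iff k p).2 hpd
  have hqz : ((q : ℕ) : ZMod p) = -1 := by
    have := congrArg (fun n : ℕ => (n : ZMod p)) hk
    push_cast at this
    rw [h1, mul_zero] at this
    linear_combination this
  have h2 := (ZMod.natCast_eq_zero_iff _ p).2 hd
  push_cast [Nat.cast_sub hq1, Nat.cast_sub hqq] at h2
  rw [hqz] at h2
  have h4 : ((24 : ℕ) : ZMod p) = 0 := by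
    push_cast
    linear_combination h2
  rw [ZMod.natCast_eq_zero_iff] at h4
  have h5 : p ∣ 2 ^ 3 * 3 := by norm_num; exact h4
  rcases (Nat.Prime.dvd_mul hp).1 h5 with h | h
  · exact hp2 ((Nat.prime_dvd_prime_iff_eq hp Nat.prime_two).1 (hp.dvd_of_dvd_pow h))
  · exact hp3 ((Nat.prime_dvd_prime_iff_eq hp Nat.prime_three).1 h)

/-- `(q+1)/4` is coprime to `q³(q-1)` -/
theorem coprime_k (m : ℕ) :
    Nat.Coprime ((3 ^ (2 * m + 1) + 1) / 4) ((3 ^ (2 * m + 1)) ^ 3 * (3 ^ (2 * m + 1) - 1)) := by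
  by_contra h
  obtain ⟨p, hp, h1, h2⟩ := Nat.Prime.not_coprime_iff_dvd.1 h
  apply hall_arith_T m p hp h1
  have : 4 * (3 ^ (2 * m + 1)) ^ 3 * (3 ^ (2 * m + 1) - 1) *
      ((3 ^ (2 * m + 1)) ^ 2 - 3 ^ (2 * m + 1) + 1) =
      ((3 ^ (2 * m + 1)) ^ 3 * (3 ^ (2 * m + 1) - 1)) *
        (4 * ((3 ^ (2 * m + 1)) ^ 2 - 3 ^ (2 * m + 1) + 1)) := by ring
  rw [this]
  exact Dvd.dvd.mul_right h2 _

variable {K : Type*} [Field K] [Fintype K] {m : ℕ} (C : ReeCtx K m)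
  (hK : Fintype.card K = 3 ^ (2 * m + 1)) (Φ : InvHom K m)

include C hK Φ

theorem card_Ap' : Nat.card (Ap Φ) = 2 * ((3 ^ (2 * m + 1) + 1) / 4) := by
  obtain ⟨k, hk, _, hk'⟩ := exists_k m
  have := card_Ap C hK Φ
  omega

theorem card_CVq' : Nat.card (CVq C hK Φ) = 8 * ((3 ^ (2 * m + 1) + 1) / 4) := by
  obtain ⟨k, hk, _, hk'⟩ := exists_k m
  have := card_CVq C hK Φ
  omega

theorem aG_not_mem_Ap : C.aG hK ∉ Ap Φ := fun h => aG_not_mem_range C hK Φ (Ap_le_range C hK Φ h)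

theorem CVq_conj_Ap : ∀ d ∈ CVq C hK Φ, ∀ a ∈ Ap Φ, d * a * d⁻¹ ∈ Ap Φ := by
  intro d hd a ha
  rcases hd with h | h
  · exact Dp_conj_Ap C hK Φ h ha
  · have hja : Commute (C.aG hK) a := aG_commute_range C hK Φ a (Ap_le_range C hK Φ ha)
    have h1 := Dp_conj_Ap C hK Φ h ha
    have hj := C.aG_sq hK
    have hjinv : (C.aG hK)⁻¹ = C.aG hK := inv_eq_of_mul_eq_one_left hj
    have hjd : Commute (C.aG hK) d := dbl_commute_j (hj := C.aG_sq hK)
      (hc := fun x hx => aG_commute_range C hK Φ x (Dp_le_range C hK Φ hx)) d (Or.inr h)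
    have e : C.aG hK * d * a * (C.aG hK * d)⁻¹ = d * a * d⁻¹ := by
      rw [mul_inv_rev, hjinv, hjd.eq]
      calc d * C.aG hK * a * (d⁻¹ * C.aG hK) = d * (C.aG hK * a) * d⁻¹ * C.aG hK := by group
        _ = d * (a * C.aG hK) * d⁻¹ * C.aG hK := by rw [hja.eq]
        _ = d * a * (C.aG hK * d⁻¹) * C.aG hK := by group
        _ = d * a * (d⁻¹ * C.aG hK) * C.aG hK := by rw [hjd.inv_right.eq]
        _ = d * a * d⁻¹ * (C.aG hK * C.aG hK) := by group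
        _ = d * a * d⁻¹ := by rw [hj, mul_one]
    rw [← e]
    exact h1

/-- the centraliser of an element of order `3` has exponent dividing `q³(q-1)` -/
theorem cent3_ree (x y : ↥(twistedG2 K (3 ^ m))) (hx : orderOf x = 3) (hc : Commute y x) :
    y ^ ((3 ^ (2 * m + 1)) ^ 3 * (3 ^ (2 * m + 1) - 1)) = 1 :=
  pow_eq_one_of_commute_three C hK hx hc

end Cfsg.Agent.Helper6.ReeLoc
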