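import Mathlib
import Cfsg.Agent.Helper6.ReeLoc.Rep7
import Cfsg.Agent.Helper6.Ree.G2Inv4
import Cfsg.Agent.Helper2.SL2Cyclic
import Cfsg.Agent.Helper12.PslGraphG

set_option autoImplicit false
set_option linter.unusedSectionVars false
set_option linter.unusedVariables false

/-!
The Sylow `p`-subgroups of `²G₂(q)` are cyclic for `p > 3`.
-/

namespace Cfsg.Agent.Helper6.ReeLoc

open Cfsg.Lie Cfsg.Agent.Helper6 Cfsg.Agent.Helper6.Ree

/-- a prime power dividing `A * M` with the prime not dividing `M` divides `A` -/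
theorem ordProj_dvd_of_coprime {r N A M : ℕ} (hr : r.Prime) (hN : N = A * M) (hM : ¬ r ∣ M) :
    r ^ N.factorization r ∣ A := by
  have h1 : r ^ N.factorization r ∣ A * M := hN ▸ Nat.ordProj_dvd N r
  exact (Nat.Coprime.pow_left _ ((Nat.Prime.coprime_iff_not_dvd hr).2 hM)).dvd_of_dvd_mul_right h1

/-- Sylow subgroups are cyclic as soon as a cyclic group with enough `r`-part embeds -/
theorem isCyclic_sylow_of_hom {A G : Type*} [Group A] [IsCyclic A] [Group G] [Finite G] {r : ℕ}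
    [Fact r.Prime] (f : A →* G) (hf : Function.Injective f)
    (h : r ^ (Nat.card G).factorization r ∣ Nat.card A) (R : Sylow r G) : IsCyclic R := by
  have hc : IsCyclic f.range := by
    have : IsCyclic A := inferInstance
    exact isCyclic_of_surjective f.rangeRestrict f.rangeRestrict_surjective
  apply Cfsg.Agent.Helper2.SL2C.isCyclic_sylow_of_subgroup f.range
  rwa [Nat.card_congr (MonoidHom.ofInjective hf).toEquiv.symm]

/-- a subgroup of a group with cyclic Sylow subgroups which is an `r`-group is cyclic -/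
theorem isCyclic_of_isPGroup {G : Type*} [Group G] [Finite G] {r : ℕ} [Fact r.Prime]
    (hS : ∀ R : Sylow r G, IsCyclic R) {P : Subgroup G} (hP : IsPGroup r P) : IsCyclic P := by
  obtain ⟨R, hR⟩ := hP.exists_le_sylow
  have := hS R
  let f : P →* R := Subgroup.inclusion hR
  exact isCyclic_of_injective f (Subgroup.inclusion_injective hR)

section arith

/-- arithmetic in `ZMod r` when `r ∣ q^2 - q + 1` -/
theorem not_dvd_of_dvd_quad {r q : ℕ} (hr : r.Prime) (h3 : 3 < r) (hq : r ∣ q ^ 2 - q + 1)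
    (hq1 : 1 ≤ q) :
    ¬ r ∣ q ∧ ¬ r ∣ q - 1 ∧ ¬ r ∣ q ^ 2 - 1 ∧ ¬ r ∣ q ^ 3 - 1 ∧ ¬ r ∣ q ^ 4 - 1 ∧ ¬ r ∣ q ^ 5 - 1 ∧
      ¬ r ∣ q ^ 7 - 1 ∧ ¬ r ∣ q + 1 := by
  have : Fact r.Prime := ⟨hr⟩
  have hle : q ≤ q ^ 2 := by nlinarith
  have e : ((q : ZMod r)) ^ 2 - (q : ZMod r) + 1 = 0 := by
    have := (ZMod.natCast_eq_zero_iff (q ^ 2 - q + 1) r).2 hq
    push_cast [Nat.cast_sub hle] at this
    exact this
  have h2 : (2 : ZMod r) ≠ 0 := by
    intro h
    have : ((2 : ℕ) : ZMod r) = 0 := by exact_mod_cast h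
    rw [ZMod.natCast_eq_zero_iff] at this
    have := Nat.le_of_dvd (by norm_num) this
    omega
  have h3' : (3 : ZMod r) ≠ 0 := by
    intro h
    have : ((3 : ℕ) : ZMod r) = 0 := by exact_mod_cast h
    rw [ZMod.natCast_eq_zero_iff] at this
    have := Nat.le_of_dvd (by norm_num) this
    omega
  set x : ZMod r := (q : ZMod r) with hx
  have hx0 : x ≠ 0 := by
    intro h
    rw [h] at e
    simp at e
  have hx1 : x ≠ 1 := by
    intro h
    rw [h] at e
    simp at e
  have hxm : x ≠ -1 := by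
    intro h
    rw [h] at e
    apply h3'
    linear_combination e
  have hx3 : x ^ 3 = -1 := by linear_combination (x + 1) * e
  have key : ∀ k : ℕ, 1 ≤ q ^ k := fun k => Nat.one_le_pow _ _ hq1
  have cast : ∀ k : ℕ, r ∣ q ^ k - 1 ↔ x ^ k = 1 := by
    intro k
    rw [← ZMod.natCast_eq_zero_iff, Nat.cast_sub (key k), Nat.cast_pow, Nat.cast_one, sub_eq_zero]
  refine ⟨?_, ?_, ?_, ?_, ?_, ?_, ?_, ?_⟩
  · rw [← ZMod.natCast_eq_zero_iff]; exact hx0
  · have := cast 1
    rw [pow_one, pow_one] at this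
    rw [this]; exact hx1
  · rw [cast 2]
    intro h
    have h5 : x = 2 := by linear_combination h - e
    rw [h5] at e
    apply h3'
    linear_combination e
  · rw [cast 3, hx3]
    intro h
    apply h2
    linear_combination -h
  · rw [cast 4]
    intro h
    have : x ^ 4 = -x := by rw [show x ^ 4 = x ^ 3 * x by ring, hx3]; ring
    rw [this] at h
    apply hxm
    linear_combination -h
  · rw [cast 5]
    intro h
    have h5 : x ^ 5 = 1 - x := by
      rw [show x ^ 5 = x ^ 3 * x ^ 2 by ring, hx3]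
      linear_combination -e
    rw [h5] at h
    apply hx0
    linear_combination -h
  · rw [cast 7]
    intro h
    have : x ^ 7 = x := by rw [show x ^ 7 = x ^ 3 * x ^ 3 * x by ring, hx3]; ring
    rw [this] at h
    exact hx1 h
  · rw [← ZMod.natCast_eq_zero_iff]
    push_cast
    intro h
    apply hxm
    linear_combination h

end arith

variable {K : Type*} [Field K] [Fintype K]

/-- the Sylow `r`-subgroups of `GL₇(q)` are cyclic when `r > 3` divides `q^2 - q + 1` -/
theorem isCyclic_sylow_GL7 {r : ℕ} [Fact r.Prime] (h3 : 3 < r)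
    (hq : r ∣ Fintype.card K ^ 2 - Fintype.card K + 1) (R : Sylow r (GL (Fin 7) K)) :
    IsCyclic R := by
  classical
  set q := Fintype.card K with hqdef
  have hq1 : 1 ≤ q := Fintype.card_pos
  have hr : r.Prime := Fact.out
  obtain ⟨n0, n1, n2, n3, n4, n5, n7, _⟩ := not_dvd_of_dvd_quad hr h3 hq hq1
  obtain ⟨g, hg⟩ := Cfsg.Agent.Helper12.PslGraph.exists_gl_orderOf (K := K) 6 (q ^ 6 - 1)
    (by norm_num) (dvd_refl _)
  let x : GL (Fin (6 + 1)) K := Cfsg.Agent.Helper12.PslGraph.blkGL 6 1 (g, 1)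
  have hx : orderOf x = q ^ 6 - 1 := by
    rw [← hg]
    have hinj : Function.Injective
        (fun y : GL (Fin 6) K => Cfsg.Agent.Helper12.PslGraph.blkGL (K := K) 6 1 (y, 1)) := by
      intro a b hab
      have := Cfsg.Agent.Helper12.PslGraph.blkGL_injective (K := K) 6 1 hab
      exact (Prod.ext_iff.1 this).1
    let φ : GL (Fin 6) K →* GL (Fin (6 + 1)) K :=
      (Cfsg.Agent.Helper12.PslGraph.blkGL (K := K) 6 1).comp (MonoidHom.inl _ _)
    exact orderOf_injective φ hinj g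
  apply isCyclic_sylow_of_hom (Subgroup.zpowers x).subtype Subtype.val_injective _ R
  rw [Nat.card_zpowers, hx]
  have hcard : Nat.card (GL (Fin 7) K) = (q ^ 6 - 1) *
      (q ^ 21 * ((q ^ 7 - 1) * (q ^ 5 - 1) * (q ^ 4 - 1) * (q ^ 3 - 1) * (q ^ 2 - 1) * (q - 1))) := by
    rw [Matrix.card_GL_field, Fin.prod_univ_seven]
    simp only [Fin.val_zero, Fin.val_one, Fin.val_two, pow_zero]
    have e : ∀ i k : ℕ, q ^ (i + k) - q ^ i = q ^ i * (q ^ k - 1) := by
      intro i k
      rw [Nat.mul_sub, mul_one, pow_add]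
    have e1 := e 1 6
    have e2 := e 2 5
    have e3 := e 3 4
    have e4 := e 4 3
    have e5 := e 5 2
    have e6 := e 6 1
    norm_num at e1 e2 e3 e4 e5 e6
    show (q ^ 7 - 1) * (q ^ 7 - q ^ 1) * (q ^ 7 - q ^ 2) * (q ^ 7 - q ^ ((3 : Fin 7) : ℕ)) *
      (q ^ 7 - q ^ ((4 : Fin 7) : ℕ)) * (q ^ 7 - q ^ ((5 : Fin 7) : ℕ)) *
      (q ^ 7 - q ^ ((6 : Fin 7) : ℕ)) = _
    have v3 : ((3 : Fin 7) : ℕ) = 3 := rfl
    have v4 : ((4 : Fin 7) : ℕ) = 4 := rfl
    have v5 : ((5 : Fin 7) : ℕ) = 5 := rfl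
    have v6 : ((6 : Fin 7) : ℕ) = 6 := rfl
    rw [v3, v4, v5, v6, pow_one, e1, e2, e3, e4, e5, e6]
    ring
  apply ordProj_dvd_of_coprime hr hcard
  intro h
  rcases (Nat.Prime.dvd_mul hr).1 h with h | h
  · exact n0 (hr.dvd_of_dvd_pow h)
  rcases (Nat.Prime.dvd_mul hr).1 h with h | h
  swap; · exact n1 h
  rcases (Nat.Prime.dvd_mul hr).1 h with h | h
  swap; · exact n2 h
  rcases (Nat.Prime.dvd_mul hr).1 h with h | h
  swap; · exact n3 h
  rcases (Nat.Prime.dvd_mul hr).1 h with h | h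
  swap; · exact n4 h
  rcases (Nat.Prime.dvd_mul hr).1 h with h | h
  · exact n7 h
  · exact n5 h

end Cfsg.Agent.Helper6.ReeLoc

namespace Cfsg.Agent.Helper6.ReeLoc

open Cfsg.Lie Cfsg.Agent.Helper6 Cfsg.Agent.Helper6.Ree

variable {K : Type*} [Field K] [Fintype K] {m : ℕ}

theorem ree_card_factor (q : ℕ) (hq : 1 ≤ q) :
    q ^ 3 * (q - 1) * (q ^ 3 + 1) = q ^ 3 * (q - 1) * ((q + 1) * (q ^ 2 - q + 1)) := by
  have hle : q ≤ q ^ 2 := by nlinarith
  obtain ⟨d, hd⟩ : ∃ d, q ^ 2 = q + d := ⟨q ^ 2 - q, by omega⟩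
  congr 1
  rw [hd, Nat.add_sub_cancel_left]
  have : q ^ 3 = q * (q + d) := by rw [← hd]; ring
  rw [this]
  have h2 : q * q = q + d := by rw [← hd]; ring
  nlinarith [h2]

/-- `S1156`: the Sylow `p`-subgroups of `²G₂(q)` are cyclic for `p > 3` -/
theorem isCyclic_sylow_ree (hK : Fintype.card K = 3 ^ (2 * m + 1)) (hm : 1 ≤ m) {p : ℕ}
    [Fact p.Prime] (hp : 3 < p) (P : Sylow p ↥(twistedG2 K (3 ^ m))) :
    IsCyclic (P : Subgroup ↥(twistedG2 K (3 ^ m))) := by
  classical
  obtain ⟨C⟩ := exists_reeCtx (K := K) (m := m) hK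
  have hch := C.char3
  have hfin : Finite ↥(twistedG2 K (3 ^ m)) := Subtype.finite
  have hpp : p.Prime := Fact.out
  set q := 3 ^ (2 * m + 1) with hqdef
  have hq1 : 1 ≤ q := Nat.one_le_pow _ _ (by norm_num)
  have hcard : Nat.card ↥(twistedG2 K (3 ^ m)) = q ^ 3 * (q - 1) * ((q + 1) * (q ^ 2 - q + 1)) := by
    rw [C.card_ree hK, ree_card_factor q hq1]
  have hpq : ¬ p ∣ q := by
    intro h
    have := (Nat.prime_dvd_prime_iff_eq hpp Nat.prime_three).1 (hpp.dvd_of_dvd_pow h)
    omega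
  have h2 : (2 : ZMod p) ≠ 0 := by
    intro h
    have : ((2 : ℕ) : ZMod p) = 0 := by exact_mod_cast h
    rw [ZMod.natCast_eq_zero_iff] at this
    have := Nat.le_of_dvd (by norm_num) this
    omega
  have h3' : (3 : ZMod p) ≠ 0 := by
    intro h
    have : ((3 : ℕ) : ZMod p) = 0 := by exact_mod_cast h
    rw [ZMod.natCast_eq_zero_iff] at this
    have := Nat.le_of_dvd (by norm_num) this
    omega
  have hle : q ≤ q ^ 2 := by nlinarith
  set x : ZMod p := (q : ZMod p) with hx
  have c1 : p ∣ q - 1 ↔ x = 1 := by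
    rw [← ZMod.natCast_eq_zero_iff, Nat.cast_sub hq1, Nat.cast_one, sub_eq_zero]
  have c2 : p ∣ q + 1 ↔ x = -1 := by
    rw [← ZMod.natCast_eq_zero_iff, Nat.cast_add, Nat.cast_one, ← eq_neg_iff_add_eq_zero]
  have c3 : p ∣ q ^ 2 - q + 1 ↔ x ^ 2 - x + 1 = 0 := by
    rw [← ZMod.natCast_eq_zero_iff]
    push_cast [Nat.cast_sub hle]
    rfl
  by_cases hA : p ∣ q - 1
  · -- the torus
    have hx1 := c1.1 hA
    let f : Kˣ →* ↥(twistedG2 K (3 ^ m)) :=
      (hwHom K m).codRestrict _ (fun w => C.hw_mem_twisted hK w)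
    have hf : Function.Injective f := by
      intro a b hab
      exact hwHom_injective (congrArg Subtype.val hab)
    apply isCyclic_sylow_of_hom f hf _ P
    have hcu : Nat.card Kˣ = q - 1 := by rw [Nat.card_units, Nat.card_eq_fintype_card, hK]
    rw [hcu]
    apply ordProj_dvd_of_coprime hpp
      (show _ = (q - 1) * (q ^ 3 * ((q + 1) * (q ^ 2 - q + 1))) by rw [hcard]; ring)
    intro h
    rcases (Nat.Prime.dvd_mul hpp).1 h with h | h
    · exact hpq (hpp.dvd_of_dvd_pow h)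
    rcases (Nat.Prime.dvd_mul hpp).1 h with h | h
    · have := c2.1 h
      rw [hx1] at this
      apply h2
      linear_combination this
    · have := c3.1 h
      rw [hx1] at this
      simp at this
  by_cases hB : p ∣ q + 1
  · -- the centraliser of an involution
    have hxm := c2.1 hB
    obtain ⟨Φ⟩ := nonempty_invHom (K := K) (m := m)
    have hdvd : p ^ (Nat.card ↥(twistedG2 K (3 ^ m))).factorization p ∣
        Fintype.card K * (Fintype.card K ^ 2 - 1) := by
      have e : q ^ 2 - 1 = (q - 1) * (q + 1) := by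
        obtain ⟨d, hd⟩ : ∃ d, q = d + 1 := ⟨q - 1, by omega⟩
        rw [hd]
        simp only [Nat.add_sub_cancel]
        have : (d + 1) ^ 2 = d * (d + 1 + 1) + 1 := by ring
        rw [this, Nat.add_sub_cancel]
      apply ordProj_dvd_of_coprime hpp
        (show _ = (Fintype.card K * (Fintype.card K ^ 2 - 1)) * (q ^ 2 * (q ^ 2 - q + 1)) by
          rw [hcard, hK, e]; ring)
      intro h
      rcases (Nat.Prime.dvd_mul hpp).1 h with h | h
      · exact hpq (hpp.dvd_of_dvd_pow h)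
      · have := c3.1 h
        rw [hxm] at this
        apply h3'
        linear_combination this
    let R₂ : Sylow p (Matrix.SpecialLinearGroup (Fin 2) K) := default
    have hR₂ : IsCyclic R₂ :=
      Cfsg.Agent.Helper2.SL2C.isCyclic_sylow 3 p (by omega) (by omega) R₂
    let f : ↥(R₂ : Subgroup (Matrix.SpecialLinearGroup (Fin 2) K)) →* ↥(twistedG2 K (3 ^ m)) :=
      (Φ.φ.codRestrict _ (fun g => Φ.mem_twisted g)).comp (Subgroup.subtype _)
    have hf : Function.Injective f := by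
      rw [injective_iff_map_eq_one]
      intro a ha
      have h1 : Φ.φ a.1 = 1 := congrArg Subtype.val ha
      have h2 : a.1 ∈ Φ.φ.ker := h1
      rw [Φ.ker_eq C hK, Matrix.SpecialLinearGroup.mem_center_iff] at h2
      obtain ⟨c, hc, hca⟩ := h2
      rw [Fintype.card_fin] at hc
      have hsq : a.1 ^ 2 = 1 := by
        apply Subtype.ext
        simp only [Matrix.SpecialLinearGroup.coe_pow, Matrix.SpecialLinearGroup.coe_one]
        rw [← hca, ← map_pow, hc, map_one]
      have hsq' : a ^ 2 = 1 := Subtype.ext hsq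
      obtain ⟨k, hk⟩ := (R₂.2 : IsPGroup p _) a
      have hcop : Nat.Coprime (p ^ k) 2 := by
        apply Nat.Coprime.pow_left
        rw [Nat.coprime_primes hpp Nat.prime_two]
        omega
      have h1 : orderOf a ∣ 1 := by
        rw [← Nat.Coprime.gcd_eq_one hcop]
        exact Nat.dvd_gcd (orderOf_dvd_of_pow_eq_one hk) (orderOf_dvd_of_pow_eq_one hsq')
      exact orderOf_eq_one_iff.1 (Nat.dvd_one.1 h1)
    apply isCyclic_sylow_of_hom f hf _ P
    rw [Sylow.card_eq_multiplicity, Cfsg.Agent.Helper2.SL2.card_SL2]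
    apply pow_dvd_pow
    have hne : Fintype.card K * (Fintype.card K ^ 2 - 1) ≠ 0 := by
      rw [← Cfsg.Agent.Helper2.SL2.card_SL2]
      exact Nat.card_pos.ne'
    exact (hpp.pow_dvd_iff_le_factorization hne).1 hdvd
  by_cases hC : p ∣ q ^ 2 - q + 1
  · -- the seven-dimensional representation
    obtain ⟨ρ, hρ⟩ := exists_rep7 (K := K) hK hm
    have hS : ∀ R : Sylow p (GL (Fin 7) K), IsCyclic R :=
      fun R => isCyclic_sylow_GL7 hp (by rw [hK]; exact hC) R
    have hmap : IsPGroup p ((P : Subgroup ↥(twistedG2 K (3 ^ m))).map ρ) := P.2.map ρ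
    have hc := isCyclic_of_isPGroup hS hmap
    let e : ↥(P : Subgroup ↥(twistedG2 K (3 ^ m))) ≃* ↥((P : Subgroup ↥(twistedG2 K (3 ^ m))).map ρ) :=
      (P : Subgroup ↥(twistedG2 K (3 ^ m))).equivMapOfInjective ρ hρ
    exact isCyclic_of_injective e.toMonoidHom e.injective
  · -- `p` does not divide the order
    have hnd : ¬ p ∣ Nat.card ↥(twistedG2 K (3 ^ m)) := by
      rw [hcard]
      intro h
      rcases (Nat.Prime.dvd_mul hpp).1 h with h | h
      · rcases (Nat.Prime.dvd_mul hpp).1 h with h | h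
        · exact hpq (hpp.dvd_of_dvd_pow h)
        · exact hA h
      · rcases (Nat.Prime.dvd_mul hpp).1 h with h | h
        · exact hB h
        · exact hC h
    have h1 : Nat.card (P : Subgroup ↥(twistedG2 K (3 ^ m))) = 1 := by
      rw [Sylow.card_eq_multiplicity, Nat.factorization_eq_zero_of_not_dvd hnd, pow_zero]
    have : Subsingleton (P : Subgroup ↥(twistedG2 K (3 ^ m))) :=
      (Nat.card_eq_one_iff_unique.1 h1).1
    exact isCyclic_of_subsingleton

end Cfsg.Agent.Helper6.ReeLoc
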