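import Mathlib
import Cfsg.Agent.Helper6.ReeLoc.Inst1
import Cfsg.Agent.Helper6.ReeLoc.Inst3
import Cfsg.Agent.Helper6.ReeLoc.Q1
import Cfsg.Agent.Helper6.ReeLoc.Hyp
import Cfsg.Agent.Helper6.ReeLoc.HFamily
import Cfsg.Agent.Helper6.ReeLoc.SylowCyclic

set_option autoImplicit false
set_option linter.unusedSectionVars false
set_option linter.unusedVariables false
set_option maxHeartbeats 800000

/-!
The local data `ReeHyp` holds for `²G₂(q)`.
-/

namespace Cfsg.Agent.Helper6.ReeLoc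

open Cfsg.Lie Cfsg.Agent.Helper6 Cfsg.Agent.Helper6.Ree Cfsg.Agent.Helper6.ReeAut

variable {K : Type*} [Field K] [Fintype K] {m : ℕ} (C : ReeCtx K m)
  (hK : Fintype.card K = 3 ^ (2 * m + 1)) (Φ : InvHom K m)

include C hK Φ in
/-- the family of order `(q+1)/4` in `²G₂(q)` -/
theorem quarter_ree (hm : 1 ≤ m) :
    ∃ A₁ V : Subgroup ↥(twistedG2 K (3 ^ m)),
      SC A₁ (Tq C hK Φ) ∧ Nat.card A₁ = (3 ^ (2 * m + 1) + 1) / 4 ∧
      V ≤ Tq C hK Φ ∧ Nat.card V = 4 ∧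
      Subgroup.normalizer (V : Set ↥(twistedG2 K (3 ^ m))) =
        Subgroup.normalizer (Tq C hK Φ : Set ↥(twistedG2 K (3 ^ m))) ∧
      Nat.card (Subgroup.normalizer (Tq C hK Φ : Set ↥(twistedG2 K (3 ^ m)))) =
        6 * (3 ^ (2 * m + 1) + 1) := by
  have hfin : Finite ↥(twistedG2 K (3 ^ m)) := Subtype.finite
  have : Fact (Nat.Prime 2) := ⟨Nat.prime_two⟩
  obtain ⟨k, hk4, hkodd, hk⟩ := exists_k m
  have hge := q_ge m hm
  have hk1 : 1 < k := by omega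
  obtain ⟨S⟩ : Nonempty (Sylow 2 ↥(twistedG2 K (3 ^ m))) := inferInstance
  obtain ⟨h1, h2⟩ := Φ.sylow_two C hK S
  obtain ⟨h3, h4⟩ := Φ.sylow_two_normalizer C hK hm S
  have hcop := coprime_k m
  rw [hk] at hcop
  have hcA := card_Ap' C hK Φ
  have hcCV := card_CVq' C hK Φ
  rw [hk] at hcA hcCV
  obtain ⟨A₁, V, hA₁A, hA₁card, hA₁cyc, hA₁cent, hVT, hVcard, hNV, hNT⟩ :=
    Q1_quarter_torus k ((3 ^ (2 * m + 1)) ^ 3 * (3 ^ (2 * m + 1) - 1)) hkodd hk1 hcop S h1 h2 h3 h4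
      (fun p hp hp3 P => by
        have : Fact p.Prime := ⟨hp⟩
        exact isCyclic_sylow_ree hK hm hp3 P)
      (cent3_ree C hK Φ) (C.aG hK) (jp Φ) (Ap Φ) (Tq C hK Φ) (CVq C hK Φ)
      (C.aG_sq hK) (C.aG_ne_one hK) (aG_not_mem_Ap C hK Φ)
      (fun a ha => aG_commute_range C hK Φ a (Ap_le_range C hK Φ ha))
      (isCyclic_Ap C hK Φ) hcA (fun x => mem_dbl)
      (fun y hy hy2 x hxj hxy => cent_aG_Ap C hK Φ hy hy2 hxj hxy)
      (jp_mem_Ap C hK Φ) (jp_ne_one C hK Φ) (jp_sq C hK Φ)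
      (fun x => cent_aG_jp C hK Φ) hcCV (CVq_conj_Ap C hK Φ)
  have hcT : Nat.card (Tq C hK Φ) = 4 * k := by rw [card_Tq C hK Φ, hk4]
  refine ⟨A₁, V, ?_, by rw [hk]; exact hA₁card, hVT, hVcard, hNV, by rw [hNT, hk4]; ring⟩
  refine ⟨hA₁A.trans (Ap_le_Tq C hK Φ), hA₁cyc, hA₁cent, Tq_comm C hK Φ, ?_, ?_⟩
  · intro X hX hXd
    rw [hA₁card] at hXd
    exact le_of_card_dvd_of_index_four (Tq C hK Φ) A₁ (hA₁A.trans (Ap_le_Tq C hK Φ))
      (Tq_comm C hK Φ) hkodd hA₁card hcT X hX hXd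
  · apply hall_of_not_dvd A₁ (4 * (3 ^ (2 * m + 1)) ^ 3 * (3 ^ (2 * m + 1) - 1) *
      ((3 ^ (2 * m + 1)) ^ 2 - 3 ^ (2 * m + 1) + 1))
    · rw [C.card_ree hK, hA₁card]
      obtain ⟨a, ha⟩ : ∃ a, 3 ^ (2 * m + 1) = a + 1 := ⟨3 ^ (2 * m + 1) - 1, by omega⟩
      have hk' : a + 2 = 4 * k := by omega
      rw [ha]
      have e1 : a + 1 - 1 = a := by omega
      have e2 : (a + 1) ^ 2 - (a + 1) + 1 = a ^ 2 + a + 1 := by
        have : (a + 1) ^ 2 = a ^ 2 + a + (a + 1) := by ring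
        omega
      rw [e1, e2]
      have e3 : (a + 1) ^ 3 + 1 = (a + 2) * (a ^ 2 + a + 1) := by ring
      rw [e3, hk']
      ring
    · intro p hp hpd
      rw [hA₁card, ← hk] at hpd
      exact hall_arith_T m p hp hpd

omit C Φ in
/-- `²G₂(q)` satisfies the local hypotheses -/
theorem nonempty_reeHyp (hK : Fintype.card K = 3 ^ (2 * m + 1)) (hm : 1 ≤ m) :
    Nonempty (ReeHyp ↥(twistedG2 K (3 ^ m)) m) := by
  obtain ⟨C⟩ := exists_reeCtx (K := K) (m := m) hK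
  have hch := C.char3
  obtain ⟨Φ⟩ := nonempty_invHom (K := K) (m := m)
  have hfin : Finite ↥(twistedG2 K (3 ^ m)) := Subtype.finite
  have : Fact (Nat.Prime 2) := ⟨Nat.prime_two⟩
  obtain ⟨S⟩ : Nonempty (Sylow 2 ↥(twistedG2 K (3 ^ m))) := inferInstance
  obtain ⟨h1, h2⟩ := Φ.sylow_two C hK S
  obtain ⟨h3, h4⟩ := Φ.sylow_two_normalizer C hK hm S
  obtain ⟨t1, t2, t3, t4⟩ := three_singular_ree C hK
  obtain ⟨AH, hAH, hscH⟩ := sc_H C hK Φ hm
  obtain ⟨A₁, V, hsc, hA₁, hVT, hV, hNV, hNT⟩ := quarter_ree C hK Φ hm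
  exact ⟨{
    hm := hm
    card := C.card_ree hK
    three_orders := t1
    card3 := t2
    card9 := t3
    card6 := t4
    cent3 := cent3_ree C hK Φ
    ti3 := C.sylow_three_ti hK
    S2 := S
    S2_card := h1
    S2_exp := h2
    S2_cent := h3
    S2_norm := h4
    card2 := card_involutions_ree C hK Φ hm
    cent2 := cent2_ree C hK Φ hm
    sylow_cyc := fun p hp hp3 P => by
      have : Fact p.Prime := ⟨hp⟩
      exact isCyclic_sylow_ree hK hm hp3 P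
    AH := AH
    ZH := H1 K m
    scH := hscH
    cardAH := hAH
    cardZH := card_H1 C hK
    cycZH := isCyclic_H1 C hK
    normZH := card_normalizer_H1 C hK Φ hm
    A1 := A₁
    T := Tq C hK Φ
    V := V
    scT := hsc
    cardA1 := hA₁
    cardT := card_Tq C hK Φ
    normT := hNT
    V_le := hVT
    cardV := hV
    normV := hNV
    pi_comm := pi_comm_ree hK hm
    pi_norm := pi_norm_ree hK hm }⟩

end Cfsg.Agent.Helper6.ReeLoc
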