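import Mathlib
import Cfsg.Agent.Helper6.ReeLoc.Inst4
import Cfsg.Agent.Helper11.ReeR1
import Cfsg.Agent.Helper16.ReeR2
import Cfsg.Agent.Helper16.ReeR3

set_option autoImplicit false
set_option linter.unusedSectionVars false
set_option linter.unusedVariables false

/-!
The full local data `ReeFull` holds for `²G₂(q)`.
-/

namespace Cfsg.Agent.Helper6.ReeLoc

open Cfsg.Lie

/-- `²G₂(q)` satisfies the full local hypotheses -/
theorem nonempty_reeFull {K : Type*} [Field K] [Fintype K] {m : ℕ}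
    (hK : Fintype.card K = 3 ^ (2 * m + 1)) (hm : 1 ≤ m) :
    Nonempty (ReeFull ↥(twistedG2 K (3 ^ m)) m) := by
  have hfin : Finite ↥(twistedG2 K (3 ^ m)) := Subtype.finite
  obtain ⟨h⟩ := nonempty_reeHyp (K := K) hK hm
  obtain ⟨h2a, h2b⟩ := Cfsg.Agent.Helper16.ReeR2.R2_class_equation h
  obtain ⟨F, _⟩ := Cfsg.Agent.Helper16.ReeR3.R3_exists_full h
    (fun p hp hpd x hx => Cfsg.Agent.Helper11.ReeR1.R1_pi_structure h p hp hpd x hx) h2a h2b
  exact ⟨F⟩

end Cfsg.Agent.Helper6.ReeLoc
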